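import Cfsg.Agent.Lib.Lie.CTA.Rigid

/-!
Coherent parametrisations of a family of `SL₂(q)`, `q` odd, indexed by a tree.
-/

set_option autoImplicit false
set_option linter.unusedSectionVars false
set_option linter.style.haveILetI false

namespace Cfsg.Agent.Lie.CTA

open Matrix

variable {F : Type*} [Field F] [Fintype F] {G : Type*} [Group G]

local notation "SL2" => Matrix.SpecialLinearGroup (Fin 2) F
local notation "SL3" => Matrix.SpecialLinearGroup (Fin 3) F

theorem act_ne (hodd : Odd (Fintype.card F)) {A : Subgroup G} {za zb : G} {φ : SL2 →* G}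
    (h : Good A za zb φ) : zb ∉ Subgroup.centralizer (A : Set G) := by
  intro hc
  have h1 : φ (sgn2 (ue 1)) = φ (ue 1) := by
    rw [← h.act, ← Subgroup.mem_centralizer_iff.1 hc (φ (ue 1)) (by rw [SetLike.mem_coe, ← h.range]; exact ⟨_, rfl⟩),
      mul_inv_cancel_right]
  have h2 := congrFun (congrFun (congrArg Subtype.val (h.inj h1)) 0) 1
  rw [sgn2_ue, ue_val, ue_val] at h2
  simp at h2
  exact two_ne hodd (by linear_combination -h2)

variable {n : ℕ} {L : Fin n → Subgroup G} {z : Fin n → G} {Adj : Fin n → Fin n → Prop}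

/-- Aligned with every neighbour. -/
def GoodAll (L : Fin n → Subgroup G) (z : Fin n → G) (Adj : Fin n → Fin n → Prop) (i : Fin n)
    (φ : Matrix.SpecialLinearGroup (Fin 2) F →* G) : Prop :=
  ∀ k, Adj i k → Good (L i) (z i) (z k) φ

theorem exists_params (hodd : Odd (Fintype.card F)) (e : ∀ i, SL2 ≃* L i)
    (hz : ∀ i, z i ∈ L i ∧ z i ∈ Subgroup.centralizer ((L i : Subgroup G) : Set G) ∧ z i ≠ 1 ∧ z i * z i = 1)
    (hsymm : ∀ i j, Adj i j → Adj j i) (hirr : ∀ i, ¬ Adj i i)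
    (h1 : ∀ i j, i ≠ j → Adj i j →
      Nonempty (↥(L i ⊔ L j) ≃* SL3) ∨
        Nonempty (↥(L i ⊔ L j) ≃* Matrix.ProjectiveSpecialLinearGroup (Fin 3) F))
    (h2 : ∀ i j, z i * z j = z j * z i)
    (h3 : ∀ i, ((Subgroup.closure (Set.range z) ⊓ Subgroup.centralizer ((L i : Subgroup G) : Set G)).subgroupOf
      (Subgroup.closure (Set.range z))).index ≤ 2)
    (hnb : ∀ i, ∃ k, Adj i k) [Finite G] (par : Fin n → Fin n) (r : Fin n) (rk : Fin n → ℕ)
    (hpar : ∀ j, j ≠ r → rk (par j) < rk j ∧ Adj (par j) j) :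
    ∃ φ : Fin n → (SL2 →* G), (∀ i, Function.Injective (φ i) ∧ (φ i).range = L i) ∧
      ∀ j, j ≠ r → ∃ ψ : SL3 →* G, ψ.comp b12 = φ (par j) ∧ ψ.comp b23 = φ j := by
  have hne : ∀ i j, Adj i j → i ≠ j := fun i j h he => hirr i (he ▸ h : Adj i i)
  have edge' : ∀ i j, Adj i j → ∀ φ : SL2 →* G, Good (L i) (z i) (z j) φ →
      ∃ ψ : SL3 →* G, ψ.comp b12 = φ ∧ Good (L j) (z j) (z i) (ψ.comp b23) := fun i j h φ hφ =>
    edge hodd (e i) (e j) (hz i) (hz j) (h2 i j) (h1 i j (hne i j h) h) hφ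
  have mov : ∀ i k, Adj i k → z k ∉ Subgroup.centralizer ((L i : Subgroup G) : Set G) := fun i k h => by
    obtain ⟨ψ, hA, -⟩ := standard hodd (e i) (e k) (hz i) (hz k) (h2 i k) (h1 i k (hne i k h) h)
    exact act_ne hodd hA
  have full : ∀ i k φ, Adj i k → Good (L i) (z i) (z k) φ → GoodAll (F := F) L z Adj i φ := by
    intro i k φ hk hφ k' hk'
    refine ⟨hφ.inj, hφ.range, hφ.neg, fun g => ?_⟩
    set H := Subgroup.closure (Set.range z)
    set C := (H ⊓ Subgroup.centralizer ((L i : Subgroup G) : Set G)).subgroupOf H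
    have hzH : ∀ a, z a ∈ H := fun a => Subgroup.subset_closure ⟨a, rfl⟩
    have hnot : ∀ a, Adj i a → (⟨z a, hzH a⟩ : H) ∉ C := fun a ha hm =>
      mov i a ha (Subgroup.mem_subgroupOf.1 hm).2
    have hidx : C.index = 2 := by
      have h0 : C.index ≠ 0 := Subgroup.FiniteIndex.index_ne_zero
      have h1' : C.index ≠ 1 := fun h => hnot k hk (by rw [Subgroup.index_eq_one.1 h]; trivial)
      have := h3 i
      change C.index ≤ 2 at this
      omega
    have hm : (⟨z k, hzH k⟩ : H) * ⟨z k', hzH k'⟩ ∈ C :=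
      (Subgroup.mul_mem_iff_of_index_two hidx).2 (iff_of_false (hnot k hk) (hnot k' hk'))
    have hm' : z k * z k' ∈ Subgroup.centralizer ((L i : Subgroup G) : Set G) := (Subgroup.mem_subgroupOf.1 hm).2
    have hx := Subgroup.mem_centralizer_iff.1 hm' (φ g) (by rw [SetLike.mem_coe, ← hφ.range]; exact ⟨g, rfl⟩)
    have ik : (z k)⁻¹ = z k := inv_eq_of_mul_eq_one_right (hz k).2.2.2
    calc z k' * φ g * (z k')⁻¹ = (z k)⁻¹ * ((z k * z k') * φ g) * (z k')⁻¹ := by group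
      _ = (z k)⁻¹ * (φ g * (z k * z k')) * (z k')⁻¹ := by rw [hx]
      _ = (z k)⁻¹ * φ g * z k := by group
      _ = z k * φ g * (z k)⁻¹ := by rw [ik]
      _ = _ := hφ.act g
  have main : ∀ m : ℕ, ∃ φ : Fin n → (SL2 →* G), (∀ i, GoodAll (F := F) L z Adj i (φ i)) ∧
      ∀ j, j ≠ r → rk j < m → ∃ ψ : SL3 →* G, ψ.comp b12 = φ (par j) ∧ ψ.comp b23 = φ j := by
    intro m
    induction m with
    | zero =>
      have hex : ∀ i, ∃ φ : SL2 →* G, GoodAll (F := F) L z Adj i φ := fun i => by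
        obtain ⟨k, hk⟩ := hnb i
        obtain ⟨ψ, hA, -⟩ := standard hodd (e i) (e k) (hz i) (hz k) (h2 i k) (h1 i k (hne i k hk) hk)
        exact ⟨_, full i k _ hk hA⟩
      choose φ hφ using hex
      exact ⟨φ, hφ, fun j _ h => absurd h (Nat.not_lt_zero _)⟩
    | succ m ih =>
      obtain ⟨φ, hφ, hψ⟩ := ih
      have hex : ∀ j, ∃ f : SL2 →* G, GoodAll (F := F) L z Adj j f ∧ ((j = r ∨ rk j ≠ m) → f = φ j) ∧
          (j ≠ r → rk j = m → ∃ ψ : SL3 →* G, ψ.comp b12 = φ (par j) ∧ ψ.comp b23 = f) := by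
        intro j
        by_cases hj : j ≠ r ∧ rk j = m
        · obtain ⟨ψ, h12, h23⟩ := edge' (par j) j (hpar j hj.1).2 (φ (par j)) (hφ _ j (hpar j hj.1).2)
          exact ⟨ψ.comp b23, full j (par j) _ (hsymm _ _ (hpar j hj.1).2) h23,
            fun h => absurd h (by rintro (h | h) <;> [exact hj.1 h; exact h hj.2]), fun _ _ => ⟨ψ, h12, rfl⟩⟩
        · refine ⟨φ j, hφ j, fun _ => rfl, fun h1 h2 => absurd ⟨h1, h2⟩ hj⟩
      choose f hf hsame hnew using hex
      refine ⟨f, hf, fun j hj hjm => ?_⟩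
      have hlt := (hpar j hj).1
      have hp : f (par j) = φ (par j) := hsame _ (Or.inr (by omega))
      rcases Nat.lt_succ_iff_lt_or_eq.1 hjm with h | h
      · rw [hp, hsame j (Or.inr (by omega))]; exact hψ j hj h
      · rw [hp]; exact hnew j hj h
  obtain ⟨φ, hφ, hψ⟩ := main (Finset.univ.sup rk + 1)
  refine ⟨φ, fun i => ?_, fun j hj => hψ j hj (Nat.lt_succ_of_le (Finset.le_sup (Finset.mem_univ j)))⟩
  obtain ⟨k, hk⟩ := hnb i
  exact ⟨(hφ i k hk).inj, (hφ i k hk).range⟩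

end Cfsg.Agent.Lie.CTA
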