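import Cfsg.Agent.Lib.Lie.CTA.Orbit
import Cfsg.Agent.Lib.Lie.CTA.Tree
import Cfsg.Agent.Lib.Small.SteinbergSLn
import Cfsg.Agent.Lib.Small.PSLn.Simple

/-!
Curtis–Tits recognition of type `A`: a chain of coherent `SL₂`'s defines a homomorphism from `SL_n`.
-/

set_option autoImplicit false
set_option linter.unusedSectionVars false
set_option linter.style.haveILetI false

namespace Cfsg.Agent.Lie.CTA

open Matrix

variable {F : Type*} [Field F] [Fintype F] {G : Type*} [Group G]

local notation "SL2" => Matrix.SpecialLinearGroup (Fin 2) F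
local notation "SL3" => Matrix.SpecialLinearGroup (Fin 3) F

namespace Node

variable {l : ℕ} (N : Node F G l)

/-- The two dual orbit maps are linked by the inverse transpose. -/
theorem dual_equiv (g : Matrix.SpecialLinearGroup (Fin (l + 1)) F) (v : Fin (l + 1) → F) :
    N.dual.ν ((theta g).1 *ᵥ v) = N.Φ g * N.dual.ν v * (N.Φ g)⁻¹ := by
  rw [N.dual.ν_equiv]
  show N.Φ (theta (theta g)) * _ * (N.Φ (theta (theta g)))⁻¹ = _
  rw [theta_theta]

theorem dual_b (t : F) : N.dual.ν (Pi.single (Fin.last l) t) = N.φ (le' (-t)) := by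
  rw [N.dual.ν_b]
  show N.φ (theta (ue t)) = _
  rw [theta_ue]

/-- The Steinberg generators one size up. -/
noncomputable def X : Fin (l + 2) → Fin (l + 2) → F → G :=
  Fin.lastCases (Fin.lastCases (fun _ => 1) (fun q t => N.dual.ν (Pi.single q (-t))))
    (fun p => Fin.lastCases (fun t => N.ν (Pi.single p t)) (fun q t => N.Φ (tv' p q t)))

theorem X_cc (p q : Fin (l + 1)) (t : F) : N.X p.castSucc q.castSucc t = N.Φ (tv' p q t) := by simp [X]

theorem X_cl (p : Fin (l + 1)) (t : F) : N.X p.castSucc (Fin.last _) t = N.ν (Pi.single p t) := by simp [X]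

theorem X_lc (q : Fin (l + 1)) (t : F) : N.X (Fin.last _) q.castSucc t = N.dual.ν (Pi.single q (-t)) := by simp [X]

theorem ne_of_cast {n : ℕ} {i j : Fin n} (h : i.castSucc ≠ j.castSucc) : i ≠ j := fun e => h (by rw [e])

theorem tv_fix {n : ℕ} {p q r : Fin n} (hpq : p ≠ q) (h : q ≠ r) (t u : F) :
    (tv' p q t).1 *ᵥ Pi.single r u = Pi.single r u := by
  rw [tv'_mulVec hpq, Pi.single_eq_of_ne h, mul_zero, Pi.single_zero, add_zero]

theorem theta_fix {n : ℕ} {p q r : Fin n} (hpq : p ≠ q) (h : p ≠ r) (t u : F) :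
    (theta (tv' p q t)).1 *ᵥ Pi.single r u = Pi.single r u := by
  rw [theta_tv' hpq, tv_fix hpq.symm h]

theorem X_add : ∀ i j, i ≠ j → ∀ t u, N.X i j t * N.X i j u = N.X i j (t + u) := by
  intro i j hij t u
  induction i using Fin.lastCases with
  | last =>
    induction j using Fin.lastCases with
    | last => exact absurd rfl hij
    | cast q => rw [X_lc, X_lc, X_lc, ← ν_add, ← Pi.single_add, neg_add]
  | cast p =>
    induction j using Fin.lastCases with
    | last => rw [X_cl, X_cl, X_cl, ← ν_add, ← Pi.single_add]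
    | cast q => rw [X_cc, X_cc, X_cc, ← map_mul, tv'_add (ne_of_cast hij)]

theorem comm_int_col {p q r : Fin (l + 1)} (hpq : p ≠ q) (h : q ≠ r) (t u : F) :
    Commute (N.Φ (tv' p q t)) (N.ν (Pi.single r u)) := by
  have e := N.ν_equiv (tv' p q t) (Pi.single r u)
  rw [tv_fix hpq h] at e
  exact eq_mul_inv_iff_mul_eq.1 e |>.symm

theorem comm_int_row {p q r : Fin (l + 1)} (hpq : p ≠ q) (h : p ≠ r) (t u : F) :
    Commute (N.Φ (tv' p q t)) (N.dual.ν (Pi.single r u)) := by
  have e := N.dual_equiv (tv' p q t) (Pi.single r u)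
  rw [theta_fix hpq h] at e
  exact eq_mul_inv_iff_mul_eq.1 e |>.symm

theorem X_comm : ∀ i j k m, i ≠ j → k ≠ m → i ≠ m → j ≠ k → ∀ t u, Commute (N.X i j t) (N.X k m u) := by
  intro i j k m h1 h2 h3 h4 t u
  induction i using Fin.lastCases with
  | last =>
    induction j using Fin.lastCases with
    | last => exact absurd rfl h1
    | cast q =>
      induction m using Fin.lastCases with
      | last => exact absurd rfl h3
      | cast m =>
        induction k using Fin.lastCases with
        | last => rw [X_lc, X_lc]; exact N.dual.ν_comm _ _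
        | cast k =>
          rw [X_lc, X_cc]
          exact (N.comm_int_row (ne_of_cast h2) (ne_of_cast h4).symm _ _).symm
  | cast p =>
    induction j using Fin.lastCases with
    | last =>
      induction k using Fin.lastCases with
      | last => exact absurd rfl h4
      | cast k =>
        induction m using Fin.lastCases with
        | last => rw [X_cl, X_cl]; exact N.ν_comm _ _
        | cast m =>
          rw [X_cl, X_cc]
          exact (N.comm_int_col (ne_of_cast h2) (ne_of_cast h3).symm _ _).symm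
    | cast q =>
      induction k using Fin.lastCases with
      | last =>
        induction m using Fin.lastCases with
        | last => exact absurd rfl h2
        | cast m => rw [X_cc, X_lc]; exact N.comm_int_row (ne_of_cast h1) (ne_of_cast h3) _ _
      | cast k =>
        induction m using Fin.lastCases with
        | last => rw [X_cc, X_cl]; exact N.comm_int_col (ne_of_cast h1) (ne_of_cast h4) _ _
        | cast m =>
          rw [X_cc, X_cc]
          exact (tv'_comm (ne_of_cast h1) (ne_of_cast h2) (ne_of_cast h3) (ne_of_cast h4) t u).map N.Φ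

theorem cross {p q : Fin (l + 1)} (hpq : p ≠ q) (t u : F) :
    N.ν (Pi.single p t) * N.dual.ν (Pi.single q (-u)) =
      N.Φ (tv' p q (t * u)) * N.dual.ν (Pi.single q (-u)) * N.ν (Pi.single p t) := by
  rcases eq_or_ne t 0 with rfl | ht
  · simp [tv'_zero, ν_zero]
  rcases eq_or_ne u 0 with rfl | hu
  · simp [tv'_zero, ν_zero]
  obtain ⟨h, ha, hb, hT⟩ := mono_pair (a := N.a.castSucc) (b := Fin.last l) (by have := N.two; omega) N.ab hpq ht hu
  have hd : (theta h).1 *ᵥ Pi.single (Fin.last l) (-1) = Pi.single q (-u) := by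
    rw [show (Pi.single (Fin.last l) (-1 : F) : Fin (l + 1) → F) = -Pi.single (Fin.last l) 1 from
      Pi.single_neg _ _, mulVec_neg, ← hT, theta_val, mulVec_mulVec, ← transpose_mul,
      ← Matrix.SpecialLinearGroup.coe_mul, mul_inv_cancel, Matrix.SpecialLinearGroup.coe_one, transpose_one,
      one_mulVec, Pi.single_neg]
  have base : N.ν (Pi.single N.a.castSucc 1) * N.φ (le' 1) =
      N.Φ (tv' N.a.castSucc (Fin.last l) 1) * N.φ (le' 1) * N.ν (Pi.single N.a.castSucc 1) := by
    rw [N.ν_a, N.φ_le, show tv' N.a.castSucc (Fin.last l) (1 : F) = emb2 N.ab (ue 1) from (emb2_ue N.ab 1).symm, N.Φ_ab,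
      show b12 (ue (1 : F)) = tv' (0 : Fin 3) 1 1 from b12_tv 1, ← map_mul, ← map_mul, ← map_mul,
      tv'_comm3 (show (0 : Fin 3) ≠ 2 by decide) (show (2 : Fin 3) ≠ 1 by decide) (show (0 : Fin 3) ≠ 1 by decide),
      mul_one]
  have hTr : h * tv' N.a.castSucc (Fin.last l) 1 = tv' p q (t * u) * h := by
    refine Subtype.ext (Matrix.ext_of_mulVec_single fun c => ?_)
    rw [Matrix.SpecialLinearGroup.coe_mul, Matrix.SpecialLinearGroup.coe_mul, ← mulVec_mulVec, ← mulVec_mulVec,
      tv'_mulVec N.ab, mulVec_add, one_mul, tv'_mulVec hpq]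
    congr 1
    have hc : (h.1 *ᵥ Pi.single c 1) q * u = (Pi.single c (1 : F) : Fin (l + 1) → F) (Fin.last l) := by
      have := congrFun hT c
      simp [mulVec_single, Pi.single_apply] at this ⊢
      rw [this]
      simp [eq_comm]
    rw [show (Pi.single N.a.castSucc ((Pi.single c (1 : F) : Fin (l + 1) → F) (Fin.last l)) : Fin (l + 1) → F) =
      ((Pi.single c (1 : F) : Fin (l + 1) → F) (Fin.last l)) • Pi.single N.a.castSucc 1 by
        rw [← Pi.single_smul, smul_eq_mul, mul_one], mulVec_smul, ha, ← Pi.single_smul, smul_eq_mul, ← hc]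
    congr 1; ring
  rw [← ha, N.ν_equiv, ← hd, N.dual_equiv, N.dual_b, neg_neg]
  have e : N.Φ (tv' p q (t * u)) = N.Φ h * N.Φ (tv' N.a.castSucc (Fin.last l) 1) * (N.Φ h)⁻¹ := by
    rw [← map_mul, hTr, map_mul, mul_inv_cancel_right]
  rw [e]
  calc N.Φ h * N.ν (Pi.single N.a.castSucc 1) * (N.Φ h)⁻¹ * (N.Φ h * N.φ (le' 1) * (N.Φ h)⁻¹) =
        N.Φ h * (N.ν (Pi.single N.a.castSucc 1) * N.φ (le' 1)) * (N.Φ h)⁻¹ := by group
    _ = N.Φ h * (N.Φ (tv' N.a.castSucc (Fin.last l) 1) * N.φ (le' 1) * N.ν (Pi.single N.a.castSucc 1)) *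
        (N.Φ h)⁻¹ := by rw [base]
    _ = _ := by group

theorem X_comm3 : ∀ i j m, i ≠ j → j ≠ m → i ≠ m → ∀ t u,
    N.X i j t * N.X j m u = N.X i m (t * u) * N.X j m u * N.X i j t := by
  intro i j m h1 h2 h3 t u
  induction i using Fin.lastCases with
  | last =>
    induction j using Fin.lastCases with
    | last => exact absurd rfl h1
    | cast q =>
      induction m using Fin.lastCases with
      | last => exact absurd rfl h3
      | cast r =>
        have hqr := ne_of_cast h2
        rw [X_lc, X_cc, X_lc]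
        have e := N.dual_equiv (tv' q r u) (Pi.single q (-t))
        rw [theta_tv' hqr, tv'_mulVec hqr.symm, Pi.single_eq_same, ν_add,
          show (-u) * -t = t * u by ring, eq_mul_inv_iff_mul_eq] at e
        rw [mul_assoc, ← e]
        have hc := (N.dual.ν_comm (Pi.single q (-t)) (Pi.single r (t * u))).eq
        rw [hc, ← mul_assoc, ← mul_assoc, ← ν_add, ← Pi.single_add, neg_add_cancel, Pi.single_zero, ν_zero, one_mul]
  | cast p =>
    induction j using Fin.lastCases with
    | last =>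
      induction m using Fin.lastCases with
      | last => exact absurd rfl h2
      | cast q => rw [X_cl, X_lc, X_cc]; exact N.cross (ne_of_cast h3) t u
    | cast q =>
      have hpq := ne_of_cast h1
      induction m using Fin.lastCases with
      | last =>
        rw [X_cc, X_cl, X_cl]
        have e := N.ν_equiv (tv' p q t) (Pi.single q u)
        rw [tv'_mulVec hpq, Pi.single_eq_same, ν_add, eq_mul_inv_iff_mul_eq] at e
        rw [← e, (N.ν_comm (Pi.single q u) (Pi.single p (t * u))).eq]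
      | cast r =>
        rw [X_cc, X_cc, X_cc, ← map_mul, ← map_mul, ← map_mul, tv'_comm3 hpq (ne_of_cast h2) (ne_of_cast h3)]

/-- One size up. -/
theorem extend : ∃ Φ' : Matrix.SpecialLinearGroup (Fin (l + 2)) F →* G,
    ∀ i j, i ≠ j → ∀ t, Φ' (tv' i j t) = N.X i j t := by
  let x : Fin (l + 2) → Fin (l + 2) → F → G × Matrix.SpecialLinearGroup (Fin (l + 2)) F :=
    fun i j t => (N.X i j t, tv' i j t)
  let S : Cfsg.Agent.Small.SteinbergSLn.St (l + 2) F (G × Matrix.SpecialLinearGroup (Fin (l + 2)) F) :=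
    { x := x
      φ := MonoidHom.snd _ _
      φx := fun i j h t => by show tv' i j t = _; rw [tv', dif_pos h]
      xadd := fun i j h t u => Prod.ext (N.X_add i j h t u) (tv'_add h t u)
      comm := fun i j k m h1 h2 h3 h4 t u => Commute.prod (N.X_comm i j k m h1 h2 h3 h4 t u) (tv'_comm h1 h2 h3 h4 t u)
      comm3 := fun i j m h1 h2 h3 t u => Prod.ext (N.X_comm3 i j m h1 h2 h3 t u) (tv'_comm3 h1 h2 h3 t u)
      three := by have := N.two; omega }
  obtain ⟨Γ, hΓ⟩ : ∃ Γ : Subgroup (G × Matrix.SpecialLinearGroup (Fin (l + 2)) F), Γ = S.gen Finset.univ := ⟨_, rfl⟩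
  let π : Γ →* Matrix.SpecialLinearGroup (Fin (l + 2)) F := (MonoidHom.snd _ _).comp Γ.subtype
  have hi : Function.Injective π := by
    rw [injective_iff_map_eq_one]
    rintro ⟨g, hg⟩ h1
    exact Subtype.ext (S.inj Finset.univ g (hΓ ▸ hg) h1)
  have hmem : ∀ i j, i ≠ j → ∀ t, x i j t ∈ Γ := fun i j h t => by
    rw [hΓ]; exact S.x_mem_gen (Finset.mem_univ _) (Finset.mem_univ _) h t
  have hs : Function.Surjective π := by
    rw [← MonoidHom.range_eq_top, eq_top_iff, ← Cfsg.Agent.Classical.sl_closure_transvections, Subgroup.closure_le]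
    rintro _ ⟨i, j, h, t, rfl⟩
    exact ⟨⟨_, hmem i j h t⟩, by show tv' i j t = _; rw [tv', dif_pos h]⟩
  let e := MulEquiv.ofBijective π ⟨hi, hs⟩
  refine ⟨((MonoidHom.fst _ _).comp Γ.subtype).comp e.symm.toMonoidHom, fun i j h t => ?_⟩
  have : e.symm (tv' i j t) = ⟨_, hmem i j h t⟩ := (MulEquiv.symm_apply_eq _).2 rfl
  simp [MonoidHom.comp_apply, this, x]

end Node

theorem hom_ext_blocks {n : ℕ} {H : Type*} [Group H] {f : Matrix.SpecialLinearGroup (Fin 2) F →* H}
    (Φ : Matrix.SpecialLinearGroup (Fin n) F →* H) (i j : Fin n) (h : i ≠ j)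
    (hu : ∀ t, Φ (tv' i j t) = f (ue t)) (hl : ∀ t, Φ (tv' j i t) = f (le' t)) : Φ.comp (emb2 h) = f :=
  sl2_hom_ext (fun t => by rw [MonoidHom.comp_apply, emb2_ue h, hu]) fun t => by
    rw [MonoidHom.comp_apply, emb2_le' h, hl]

/-- Type `A`: the chain gives a homomorphism from `SL_{n+1}`. -/
theorem an_hom {n : ℕ} (φ : Fin n → (SL2 →* G))
    (hedge : ∀ i j : Fin n, i.val + 1 = j.val → ∃ ψ : SL3 →* G, ψ.comp b12 = φ i ∧ ψ.comp b23 = φ j)
    (hcomm : ∀ i j : Fin n, i.val + 1 < j.val → ∀ g h, Commute (φ i g) (φ j h)) :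
    ∀ l, 2 ≤ l → l ≤ n → ∃ Φ : Matrix.SpecialLinearGroup (Fin (l + 1)) F →* G,
      ∀ (i : Fin l) (hin : i.val < n), Φ.comp (emb2 (show i.castSucc ≠ i.succ from (Fin.castSucc_lt_succ).ne)) =
        φ ⟨i.val, hin⟩ := by
  intro l hl2
  induction l, hl2 using Nat.le_induction with
  | base =>
    intro hn
    obtain ⟨ψ, h1, h2⟩ := hedge ⟨0, by omega⟩ ⟨1, by omega⟩ rfl
    refine ⟨ψ, fun i hin => ?_⟩
    fin_cases i
    · exact h1
    · exact h2
  | succ l hl ih =>
    intro hln
    obtain ⟨Φ, hΦ⟩ := ih (by omega)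
    obtain ⟨ψ, h1, h2⟩ := hedge ⟨l - 1, by omega⟩ ⟨l, by omega⟩ (by simp only; omega)
    have hΦtv : ∀ (i : Fin l) (t : F), Φ (tv' i.castSucc i.succ t) = φ ⟨i.val, by omega⟩ (ue t) ∧
        Φ (tv' i.succ i.castSucc t) = φ ⟨i.val, by omega⟩ (le' t) := fun i t => by
      rw [← hΦ i (by omega), MonoidHom.comp_apply, MonoidHom.comp_apply,
        emb2_ue (show i.castSucc ≠ i.succ from Fin.castSucc_lt_succ.ne),
        emb2_le' (show i.castSucc ≠ i.succ from Fin.castSucc_lt_succ.ne)]
      exact ⟨rfl, rfl⟩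
    have hsucc : (⟨l - 1, by omega⟩ : Fin l).succ = Fin.last l := Fin.ext (by simp; omega)
    let N : Node F G l :=
      { a := ⟨l - 1, by omega⟩
        ha := by simp only; omega
        two := hl
        Φ := Φ
        φ := φ ⟨l, by omega⟩
        ψ := ψ
        hψ1 := by
          rw [h1]
          refine (hom_ext_blocks Φ _ _ _ (fun t => ?_) fun t => ?_).symm
          · have h := (hΦtv ⟨l - 1, by omega⟩ t).1
            rwa [hsucc] at h
          · have h := (hΦtv ⟨l - 1, by omega⟩ t).2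
            rwa [hsucc] at h
        hψ2 := h2
        far := fun i j t u hij => by
          have hil := i.isLt
          have hjl := j.isLt
          rcases hij with h | h
          · have e : i.castSucc = j.succ := Fin.ext (by simp; omega)
            rw [e, (hΦtv j t).2]
            exact ⟨hcomm ⟨j.val, by omega⟩ ⟨l, by omega⟩ (by simp only; omega) _ _,
              hcomm ⟨j.val, by omega⟩ ⟨l, by omega⟩ (by simp only; omega) _ _⟩
          · have e : j.castSucc = i.succ := Fin.ext (by simp; omega)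
            rw [e, (hΦtv i t).1]
            exact ⟨hcomm ⟨i.val, by omega⟩ ⟨l, by omega⟩ (by simp only; omega) _ _,
              hcomm ⟨i.val, by omega⟩ ⟨l, by omega⟩ (by simp only; omega) _ _⟩ }
    obtain ⟨Φ', hΦ'⟩ := N.extend
    refine ⟨Φ', fun i hin => ?_⟩
    refine hom_ext_blocks Φ' _ _ _ (fun t => ?_) fun t => ?_
    · rw [hΦ' _ _ Fin.castSucc_lt_succ.ne]
      induction i using Fin.lastCases with
      | last =>
        rw [Fin.succ_last, N.X_cl, N.ν_b]
        rfl
      | cast i =>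
        rw [Fin.succ_castSucc, N.X_cc]
        exact (hΦtv i t).1
    · rw [hΦ' _ _ Fin.castSucc_lt_succ.ne']
      induction i using Fin.lastCases with
      | last =>
        rw [Fin.succ_last, N.X_lc, N.dual_b, neg_neg]
        rfl
      | cast i =>
        rw [Fin.succ_castSucc, N.X_cc]
        exact (hΦtv i t).2

/-- Type `A`, for a simple group. -/
theorem an_simple {n : ℕ} (hn : 2 ≤ n) [IsSimpleGroup G] (φ : Fin n → (SL2 →* G))
    (hinj : ∀ i, Function.Injective (φ i))
    (hedge : ∀ i j : Fin n, i.val + 1 = j.val → ∃ ψ : SL3 →* G, ψ.comp b12 = φ i ∧ ψ.comp b23 = φ j)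
    (hcomm : ∀ i j : Fin n, i.val + 1 < j.val → ∀ g h, Commute (φ i g) (φ j h))
    (hgen : ⨆ i, (φ i).range = ⊤) :
    Nonempty (G ≃* Matrix.ProjectiveSpecialLinearGroup (Fin (n + 1)) F) := by
  obtain ⟨Φ, hΦ⟩ := an_hom φ hedge hcomm n hn le_rfl
  have hsurj : Function.Surjective Φ := by
    rw [← MonoidHom.range_eq_top, eq_top_iff, ← hgen, iSup_le_iff]
    intro i
    rw [← show Φ.comp (emb2 _) = φ ⟨i.val, i.isLt⟩ from hΦ i i.isLt]
    rintro _ ⟨x, rfl⟩
    exact ⟨_, rfl⟩
  have hnc : ∃ a b : G, a * b ≠ b * a := by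
    refine ⟨φ ⟨0, by omega⟩ (ue 1), φ ⟨0, by omega⟩ (le' 1), fun h => ?_⟩
    rw [← map_mul, ← map_mul] at h
    have h2 := congrFun (congrFun (congrArg Subtype.val (hinj _ h)) 0) 0
    rw [Matrix.SpecialLinearGroup.coe_mul, Matrix.SpecialLinearGroup.coe_mul, ue_val, le'_val, mul_fin_two,
      mul_fin_two] at h2
    simp at h2
  have hker : Subgroup.center (Matrix.SpecialLinearGroup (Fin (n + 1)) F) ≤ Φ.ker := by
    intro c hc
    rw [MonoidHom.mem_ker]
    have hmem : Φ c ∈ Subgroup.center G := Subgroup.mem_center_iff.2 fun y => by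
      obtain ⟨x, rfl⟩ := hsurj y
      rw [← map_mul, ← map_mul, Subgroup.mem_center_iff.1 hc x]
    rcases IsSimpleGroup.eq_bot_or_eq_top_of_normal (Subgroup.center G) inferInstance with h | h
    · rwa [h, Subgroup.mem_bot] at hmem
    · obtain ⟨a, b, hab⟩ := hnc
      exact absurd (Subgroup.mem_center_iff.1 (show b ∈ Subgroup.center G by rw [h]; trivial) a) hab
  haveI := Cfsg.Agent.Small.PSLn.psl_simple (F := F) (show 3 ≤ n + 1 by omega)
  let f : Matrix.ProjectiveSpecialLinearGroup (Fin (n + 1)) F →* G := QuotientGroup.lift _ Φ hker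
  have fs : Function.Surjective f := fun y => by
    obtain ⟨x, rfl⟩ := hsurj y
    exact ⟨QuotientGroup.mk x, rfl⟩
  have fi : Function.Injective f := by
    rw [← MonoidHom.ker_eq_bot_iff]
    rcases IsSimpleGroup.eq_bot_or_eq_top_of_normal f.ker inferInstance with h | h
    · exact h
    · exfalso
      obtain ⟨a, b, hab⟩ := hnc
      obtain ⟨x, rfl⟩ := fs a
      have : f x = 1 := MonoidHom.mem_ker.1 (by rw [h]; trivial)
      exact hab (by rw [this, one_mul, mul_one])
  exact ⟨(MulEquiv.ofBijective f ⟨fi, fs⟩).symm⟩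

end Cfsg.Agent.Lie.CTA
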