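import Mathlib
import Cfsg.Agent.Lib.Classical.LinBasic
import Cfsg.Agent.Lib.Small.SLnSteinberg

/-!
Blocks in `SL₃` and automorphisms of `SL₂` commuting with the sign change of a split torus, for the
Curtis–Tits recognition theorems in odd characteristic.
-/

set_option autoImplicit false
set_option linter.unusedSectionVars false
set_option linter.style.haveILetI false

namespace Cfsg.Agent.Lie.CTA

open Matrix

variable {F : Type*} [Field F]

local notation "SL2" => Matrix.SpecialLinearGroup (Fin 2) F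
local notation "SL3" => Matrix.SpecialLinearGroup (Fin 3) F

/-- Upper root element. -/
def ue (t : F) : SL2 := ⟨!![1, t; 0, 1], by simp [det_fin_two]⟩

/-- Lower root element. -/
def le' (t : F) : SL2 := ⟨!![1, 0; t, 1], by simp [det_fin_two]⟩

theorem ue_val (t : F) : (ue t).1 = !![1, t; 0, 1] := rfl

theorem le'_val (t : F) : (le' t).1 = !![1, 0; t, 1] := rfl

theorem ue_add (t u : F) : ue t * ue u = ue (t + u) := by
  refine Subtype.ext ?_
  show (ue t).1 * (ue u).1 = _
  rw [ue_val, ue_val, ue_val, mul_fin_two]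
  simp [add_comm]

theorem le'_add (t u : F) : le' t * le' u = le' (t + u) := by
  refine Subtype.ext ?_
  show (le' t).1 * (le' u).1 = _
  rw [le'_val, le'_val, le'_val, mul_fin_two]
  simp

theorem ue_zero : (ue 0 : SL2) = 1 := Subtype.ext (by rw [ue_val]; exact one_fin_two.symm)

theorem le'_zero : (le' 0 : SL2) = 1 := Subtype.ext (by rw [le'_val]; exact one_fin_two.symm)

theorem sl2_induction {P : SL2 → Prop} (hu : ∀ t, P (ue t)) (hl : ∀ t, P (le' t)) (h1 : P 1)
    (hmul : ∀ a b, P a → P b → P (a * b)) (hinv : ∀ a, P a → P a⁻¹) (g : SL2) : P g := by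
  have htop := Cfsg.Agent.Classical.sl_closure_transvections (ι := Fin 2) (F := F)
  have hg : g ∈ Subgroup.closure {g : SL2 |
      ∃ (i j : Fin 2) (h : i ≠ j) (c : F), g = Matrix.SpecialLinearGroup.transvection h c} := by
    rw [htop]; exact Subgroup.mem_top g
  induction hg using Subgroup.closure_induction with
  | mem x hx =>
    obtain ⟨i, j, h, c, rfl⟩ := hx
    fin_cases i <;> fin_cases j
    · exact absurd rfl h
    · convert hu c using 1
      exact Subtype.ext (by ext a b; fin_cases a <;> fin_cases b <;> simp [ue_val, Matrix.SpecialLinearGroup.transvection_coe])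
    · convert hl c using 1
      exact Subtype.ext (by ext a b; fin_cases a <;> fin_cases b <;> simp [le'_val, Matrix.SpecialLinearGroup.transvection_coe])
    · exact absurd rfl h
  | one => exact h1
  | mul a b _ _ ha hb => exact hmul a b ha hb
  | inv a _ ha => exact hinv a ha

theorem sl2_hom_ext {H : Type*} [Group H] {f g : SL2 →* H} (hu : ∀ t, f (ue t) = g (ue t))
    (hl : ∀ t, f (le' t) = g (le' t)) : f = g :=
  MonoidHom.ext fun a => sl2_induction (P := fun a => f a = g a) hu hl (by simp)
    (fun a b ha hb => by rw [map_mul, map_mul, ha, hb]) (fun a ha => by rw [map_inv, map_inv, ha]) a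

/-- Conjugation by `diag (1, -1)`. -/
def sgn2 : SL2 →* SL2 where
  toFun g := ⟨!![g.1 0 0, -g.1 0 1; -g.1 1 0, g.1 1 1], by
    have h := g.2; rw [det_fin_two] at h; rw [det_fin_two_of]; linear_combination h⟩
  map_one' := Subtype.ext (by ext a b; fin_cases a <;> fin_cases b <;> simp)
  map_mul' g h := Subtype.ext (by
    ext a b
    show !![(g * h).1 0 0, -(g * h).1 0 1; -(g * h).1 1 0, (g * h).1 1 1] a b =
      (!![g.1 0 0, -g.1 0 1; -g.1 1 0, g.1 1 1] * !![h.1 0 0, -h.1 0 1; -h.1 1 0, h.1 1 1]) a b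
    fin_cases a <;> fin_cases b <;>
      simp [Matrix.mul_apply, Fin.sum_univ_two] <;> ring)

theorem sgn2_val (g : SL2) : (sgn2 g).1 = !![g.1 0 0, -g.1 0 1; -g.1 1 0, g.1 1 1] := rfl

theorem sgn2_ue (t : F) : sgn2 (ue t) = ue (-t) :=
  Subtype.ext (by ext a b; fin_cases a <;> fin_cases b <;> simp [sgn2_val, ue_val])

theorem sgn2_le' (t : F) : sgn2 (le' t) = le' (-t) :=
  Subtype.ext (by ext a b; fin_cases a <;> fin_cases b <;> simp [sgn2_val, le'_val])

/-- Inverse transpose. -/
def theta {n : ℕ} : Matrix.SpecialLinearGroup (Fin n) F →* Matrix.SpecialLinearGroup (Fin n) F where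
  toFun g := ⟨((g⁻¹ : Matrix.SpecialLinearGroup (Fin n) F)).1ᵀ, by rw [det_transpose]; exact g⁻¹.2⟩
  map_one' := Subtype.ext (by simp)
  map_mul' g h := Subtype.ext (by
    show ((g * h)⁻¹).1ᵀ = (g⁻¹).1ᵀ * (h⁻¹).1ᵀ
    rw [_root_.mul_inv_rev, Matrix.SpecialLinearGroup.coe_mul, transpose_mul])

theorem theta_val {n : ℕ} (g : Matrix.SpecialLinearGroup (Fin n) F) : (theta g).1 = (g⁻¹).1ᵀ := rfl

theorem theta_theta {n : ℕ} (g : Matrix.SpecialLinearGroup (Fin n) F) : theta (theta g) = g := by
  refine Subtype.ext ?_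
  rw [theta_val, ← map_inv, theta_val, inv_inv, transpose_transpose]

theorem theta_bij {n : ℕ} : Function.Bijective (theta (F := F) (n := n)) :=
  Function.Involutive.bijective theta_theta

theorem theta_ue (t : F) : theta (ue t) = le' (-t) := by
  have h : (ue t : SL2)⁻¹ = ue (-t) := inv_eq_of_mul_eq_one_right (by rw [ue_add, add_neg_cancel, ue_zero])
  refine Subtype.ext ?_
  rw [theta_val, h]
  ext a b; fin_cases a <;> fin_cases b <;> simp [le'_val, ue_val]

theorem theta_le' (t : F) : theta (le' t) = ue (-t) := by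
  have h : (le' t : SL2)⁻¹ = le' (-t) := inv_eq_of_mul_eq_one_right (by rw [le'_add, add_neg_cancel, le'_zero])
  refine Subtype.ext ?_
  rw [theta_val, h]
  ext a b; fin_cases a <;> fin_cases b <;> simp [le'_val, ue_val]

/-! ### The two blocks of `SL₃` -/

/-- The upper block. -/
def b12 : SL2 →* SL3 := Cfsg.Agent.Small.SLnSt.emb (show (0 : Fin 3) ≠ 1 by decide)

/-- The lower block. -/
def b23 : SL2 →* SL3 := Cfsg.Agent.Small.SLnSt.emb (show (1 : Fin 3) ≠ 2 by decide)

theorem b12_val [Fintype F] (g : SL2) : (b12 g).1 = !![g.1 0 0, g.1 0 1, 0; g.1 1 0, g.1 1 1, 0; 0, 0, 1] := by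
  ext a b
  rw [b12, Cfsg.Agent.Small.SLnSt.emb_apply]
  fin_cases a <;> fin_cases b <;> simp

theorem b23_val [Fintype F] (g : SL2) : (b23 g).1 = !![1, 0, 0; 0, g.1 0 0, g.1 0 1; 0, g.1 1 0, g.1 1 1] := by
  ext a b
  rw [b23, Cfsg.Agent.Small.SLnSt.emb_apply]
  fin_cases a <;> fin_cases b <;> simp

variable [Fintype F]

theorem b12_inj : Function.Injective (b12 : SL2 →* SL3) := fun g h e => by
  have e' := congrArg Subtype.val e
  rw [b12_val, b12_val] at e'
  refine Subtype.ext ?_
  ext a b
  fin_cases a <;> fin_cases b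
  · simpa using congrFun (congrFun e' 0) 0
  · simpa using congrFun (congrFun e' 0) 1
  · simpa using congrFun (congrFun e' 1) 0
  · simpa using congrFun (congrFun e' 1) 1

theorem b23_inj : Function.Injective (b23 : SL2 →* SL3) := fun g h e => by
  have e' := congrArg Subtype.val e
  rw [b23_val, b23_val] at e'
  refine Subtype.ext ?_
  ext a b
  fin_cases a <;> fin_cases b
  · simpa using congrFun (congrFun e' 1) 1
  · simpa using congrFun (congrFun e' 1) 2
  · simpa using congrFun (congrFun e' 2) 1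
  · simpa using congrFun (congrFun e' 2) 2

theorem theta_b12 (g : SL2) : theta (b12 g) = b12 (theta g) := by
  have h : (b12 g : SL3)⁻¹ = b12 g⁻¹ := (map_inv _ _).symm
  refine Subtype.ext ?_
  rw [theta_val, h, b12_val, b12_val, theta_val]
  ext a b; fin_cases a <;> fin_cases b <;> simp

theorem theta_b23 (g : SL2) : theta (b23 g) = b23 (theta g) := by
  have h : (b23 g : SL3)⁻¹ = b23 g⁻¹ := (map_inv _ _).symm
  refine Subtype.ext ?_
  rw [theta_val, h, b23_val, b23_val, theta_val]
  ext a b; fin_cases a <;> fin_cases b <;> simp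

/-- The central involution of the upper block acts on the lower block by `sgn2`. -/
theorem neg_b23 (g : SL2) : b12 (-1) * b23 g * b12 (-1) = b23 (sgn2 g) := by
  refine Subtype.ext ?_
  show (b12 (-1 : SL2)).1 * (b23 g).1 * (b12 (-1 : SL2)).1 = _
  rw [b12_val, b23_val, b23_val, sgn2_val]
  ext a b; fin_cases a <;> fin_cases b <;> simp [Matrix.mul_apply, Fin.sum_univ_three]

/-- The central involution of the lower block acts on the upper block by `sgn2`. -/
theorem neg_b12 (g : SL2) : b23 (-1) * b12 g * b23 (-1) = b12 (sgn2 g) := by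
  refine Subtype.ext ?_
  show (b23 (-1 : SL2)).1 * (b12 g).1 * (b23 (-1 : SL2)).1 = _
  rw [b12_val, b23_val, b12_val, sgn2_val]
  ext a b; fin_cases a <;> fin_cases b <;> simp [Matrix.mul_apply, Fin.sum_univ_three]

/-! ### Facts in odd characteristic -/

theorem two_ne (hodd : Odd (Fintype.card F)) : (2 : F) ≠ 0 := by
  intro h2
  haveI : CharP F 2 := CharTwo.of_one_ne_zero_of_two_eq_zero one_ne_zero h2
  obtain ⟨n, -, hn⟩ := FiniteField.card F 2
  rw [hn] at hodd
  exact absurd hodd (Nat.not_odd_iff_even.2 ((Nat.even_pow' n.ne_zero).2 even_two))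

theorem neg_one_ne (hodd : Odd (Fintype.card F)) : (-1 : SL2) ≠ 1 := fun h => by
  have := congrFun (congrFun (congrArg Subtype.val h) 0) 0
  simp at this
  exact two_ne hodd (by linear_combination -this)

theorem neg_mul_self : (-1 : SL2) * -1 = 1 := by simp

theorem sgn2_neg : sgn2 (-1 : SL2) = -1 :=
  Subtype.ext (by ext a b; fin_cases a <;> fin_cases b <;> simp [sgn2_val])

/-- A central element of order two is `-1`. -/
theorem eq_neg_one {x : SL2} (hc : ∀ g, g * x = x * g) (h1 : x ≠ 1) (h2 : x * x = 1) : x = -1 := by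
  obtain ⟨r, hr, hx⟩ := Matrix.SpecialLinearGroup.mem_center_iff.1 (Subgroup.mem_center_iff.2 hc)
  have hr2 : r ^ 2 = 1 := by simpa using hr
  rcases sq_eq_one_iff.1 hr2 with rfl | rfl
  · exact absurd (Subtype.ext (by rw [← hx]; simp)) h1
  · exact Subtype.ext (by rw [← hx, Matrix.SpecialLinearGroup.coe_neg]; ext i j; fin_cases i <;> fin_cases j <;> simp)

theorem trace_of_pow_char {p : ℕ} [Fact p.Prime] [CharP F p] {x : SL2} (hx : x ^ p = 1) :
    x.1 0 0 + x.1 1 1 = 2 := by
  have h1 : (x.1 - 1) ^ p = 0 := by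
    rw [sub_pow_char_of_commute p (Commute.one_right x.1), one_pow,
      ← Matrix.SpecialLinearGroup.coe_pow, hx, Matrix.SpecialLinearGroup.coe_one, sub_self]
  have h2 : (x.1 - 1).det = 0 := by
    have := congrArg Matrix.det h1
    rw [det_pow, det_zero] at this
    exact eq_zero_of_pow_eq_zero this
  have h3 := x.2
  rw [det_fin_two] at h2 h3
  simp at h2
  linear_combination -h2 + h3

theorem ue_pow_char {p : ℕ} [CharP F p] (t : F) : ue t ^ p = 1 := by
  have h : ∀ n : ℕ, ue t ^ n = ue ((n : F) * t) := by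
    intro n
    induction n with
    | zero => simp [ue_zero]
    | succ n ih => rw [pow_succ, ih, ue_add, Nat.cast_succ]; ring_nf
  rw [h, CharP.cast_eq_zero, zero_mul, ue_zero]

theorem le'_pow_char {p : ℕ} [CharP F p] (t : F) : le' t ^ p = 1 := by
  have h : ∀ n : ℕ, le' t ^ n = le' ((n : F) * t) := by
    intro n
    induction n with
    | zero => simp [le'_zero]
    | succ n ih => rw [pow_succ, ih, le'_add, Nat.cast_succ]; ring_nf
  rw [h, CharP.cast_eq_zero, zero_mul, le'_zero]

/-! ### Automorphisms of `SL₂` commuting with `sgn2` -/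

section Align

variable (hodd : Odd (Fintype.card F)) (α : Matrix.SpecialLinearGroup (Fin 2) F →* Matrix.SpecialLinearGroup (Fin 2) F) (hα : Function.Injective α)
  (hs : ∀ g, α (sgn2 g) = sgn2 (α g))

include hodd hα hs

theorem unip_image {x : SL2} (hp : ∀ p : ℕ, CharP F p → x ^ p = 1) (hx : sgn2 x = x⁻¹) :
    (∃ t, α x = ue t) ∨ ∃ t, α x = le' t := by
  obtain ⟨p, hpc⟩ := CharP.exists F
  haveI := Fact.mk (CharP.char_is_prime F p)
  have htr := trace_of_pow_char (p := p) (x := α x) (by rw [← map_pow, hp p hpc, map_one])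
  have hinv : sgn2 (α x) = (α x)⁻¹ := by rw [← hs, hx, map_inv]
  have h00 := congrFun (congrFun (congrArg Subtype.val hinv) 0) 0
  rw [sgn2_val, Matrix.SpecialLinearGroup.coe_inv, adjugate_fin_two] at h00
  simp at h00
  have e0 : (α x).1 0 0 = 1 := by
    have h2 := two_ne hodd
    have : 2 * ((α x).1 0 0 - 1) = 0 := by linear_combination htr + h00
    exact sub_eq_zero.1 ((mul_eq_zero.1 this).resolve_left h2)
  have e1 : (α x).1 1 1 = 1 := by rw [← h00]; exact e0
  have hdet := (α x).2
  rw [det_fin_two, e0, e1] at hdet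
  have hbc : (α x).1 0 1 * (α x).1 1 0 = 0 := by linear_combination -hdet
  rcases mul_eq_zero.1 hbc with hb | hc
  · refine Or.inr ⟨(α x).1 1 0, Subtype.ext ?_⟩
    rw [le'_val, eta_fin_two (α x).1, e0, e1, hb]
    simp
  · refine Or.inl ⟨(α x).1 0 1, Subtype.ext ?_⟩
    rw [ue_val, eta_fin_two (α x).1, e0, e1, hc]
    simp

/-- The upper root group goes to one of the two root groups. -/
theorem ue_image : (∀ t, ∃ u, α (ue t) = ue u) ∨ ∀ t, ∃ u, α (ue t) = le' u := by
  have hu : ∀ t, (∃ u, α (ue t) = ue u) ∨ ∃ u, α (ue t) = le' u := fun t =>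
    unip_image hodd α hα hs (fun p _ => ue_pow_char t) (by
      rw [sgn2_ue, inv_eq_of_mul_eq_one_right (by rw [ue_add, add_neg_cancel, ue_zero])])
  by_contra hcon
  simp only [not_or, not_forall, not_exists] at hcon
  obtain ⟨⟨s, hs1⟩, t, ht1⟩ := hcon
  obtain ⟨u, hu1⟩ := (hu s).resolve_left (fun ⟨v, hv⟩ => hs1 v hv)
  obtain ⟨v, hv1⟩ := (hu t).resolve_right (fun ⟨w, hw⟩ => ht1 w hw)
  have hu0 : u ≠ 0 := fun h => hs1 0 (by rw [hu1, h, le'_zero, ue_zero])
  have hv0 : v ≠ 0 := fun h => ht1 0 (by rw [hv1, h, ue_zero, le'_zero])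
  have e : α (ue (s + t)) = le' u * ue v := by rw [← ue_add, map_mul, hu1, hv1]
  rcases hu (s + t) with ⟨w, hw⟩ | ⟨w, hw⟩ <;> rw [hw] at e
  · have := congrFun (congrFun (congrArg Subtype.val e) 1) 0
    rw [ue_val, Matrix.SpecialLinearGroup.coe_mul, le'_val, ue_val, mul_fin_two] at this
    simp at this
    exact hu0 this.symm
  · have := congrFun (congrFun (congrArg Subtype.val e) 0) 1
    rw [le'_val, Matrix.SpecialLinearGroup.coe_mul, le'_val, ue_val, mul_fin_two] at this
    simp at this
    exact hv0 this.symm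

theorem le_image {f : F → F} (hf : ∀ t, α (ue t) = ue (f t)) (hf' : Function.Surjective f)
    (t : F) : ∃ u, α (le' t) = le' u := by
  rcases unip_image hodd α hα hs (x := le' t) (fun p _ => le'_pow_char t) (by
      rw [sgn2_le', inv_eq_of_mul_eq_one_right (by rw [le'_add, add_neg_cancel, le'_zero])]) with
    ⟨u, hu⟩ | h
  · obtain ⟨s, rfl⟩ := hf' u
    rw [← hf] at hu
    have h2 := congrFun (congrFun (congrArg Subtype.val (hα hu)) 1) 0
    rw [ue_val, le'_val] at h2
    simp at h2
    subst h2
    exact ⟨0, by rw [le'_zero, map_one]⟩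
  · exact h

/-- An injective endomorphism commuting with `sgn2` and fixing the sign of the torus is a field automorphism
followed by a diagonal conjugation. -/
theorem exists_field (hU : ∀ t, ∃ u, α (ue t) = ue u) :
    ∃ (σ : F →+* F) (c : F), c ≠ 0 ∧ (∀ t, α (ue t) = ue (c * σ t)) ∧ ∀ t, α (le' t) = le' (c⁻¹ * σ t) := by
  choose f hf using hU
  have hinjf : Function.Injective f := fun a b h => by
    have := congrFun (congrFun (congrArg Subtype.val (hα ((hf a).trans ((congrArg ue h).trans (hf b).symm)))) 0) 1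
    simpa [ue_val] using this
  have hsurjf : Function.Surjective f := Finite.injective_iff_surjective.1 hinjf
  choose g hg using le_image hodd α hα hs hf hsurjf
  have fadd : ∀ a b, f (a + b) = f a + f b := fun a b => by
    have h := congrArg α (ue_add a b)
    rw [map_mul, hf, hf, hf, ue_add] at h
    have := congrFun (congrFun (congrArg Subtype.val h) 0) 1
    simpa [ue_val] using this.symm
  have gadd : ∀ a b, g (a + b) = g a + g b := fun a b => by
    have h := congrArg α (le'_add a b)
    rw [map_mul, hg, hg, hg, le'_add] at h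
    have := congrFun (congrFun (congrArg Subtype.val h) 1) 0
    simpa [le'_val] using this.symm
  have f0 : f 0 = 0 := by simpa using fadd 0 0
  have g0 : g 0 = 0 := by simpa using gadd 0 0
  have fneg : ∀ a, f (-a) = -f a := fun a => eq_neg_of_add_eq_zero_left (by rw [← fadd, neg_add_cancel, f0])
  have gneg : ∀ a, g (-a) = -g a := fun a => eq_neg_of_add_eq_zero_left (by rw [← gadd, neg_add_cancel, g0])
  have wv : ∀ (a b : F), (ue a * le' b * ue a : SL2).1 = !![1 + a * b, a + (1 + a * b) * a; b, b * a + 1] := by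
    intro a b
    rw [Matrix.SpecialLinearGroup.coe_mul, Matrix.SpecialLinearGroup.coe_mul, ue_val, le'_val, mul_fin_two, mul_fin_two]
    ext i j
    fin_cases i <;> fin_cases j <;> simp <;> ring
  have hw : ∀ t, t ≠ 0 → α (ue t * le' (-t⁻¹) * ue t) = ue (f t) * le' (-g t⁻¹) * ue (f t) := by
    intro t _
    rw [map_mul, map_mul, hf, hg, gneg]
  have inv1 : ∀ t, t ≠ 0 → f t * g t⁻¹ = 1 := by
    intro t ht
    have hanti : sgn2 (ue t * le' (-t⁻¹) * ue t) = (-1) * (ue t * le' (-t⁻¹) * ue t) := by
      rw [map_mul, map_mul, sgn2_ue, sgn2_le', neg_neg, neg_one_mul]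
      refine Subtype.ext ?_
      rw [Matrix.SpecialLinearGroup.coe_neg, wv]
      ext i j
      fin_cases i <;> fin_cases j <;> simp [Matrix.SpecialLinearGroup.coe_mul, ue_val, le'_val] <;> field_simp <;> ring
    have h := congrArg α hanti
    have hm1 : α (-1) = -1 := by
      refine Subtype.ext ?_
      have hx : α (-1 : SL2) * α (-1) = 1 := by rw [← map_mul, neg_mul_self, map_one]
      have hsx : sgn2 (α (-1)) = α (-1) := by rw [← hs, sgn2_neg]
      have a01 := congrFun (congrFun (congrArg Subtype.val hsx) 0) 1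
      have a10 := congrFun (congrFun (congrArg Subtype.val hsx) 1) 0
      rw [sgn2_val] at a01 a10
      simp at a01 a10
      have two := two_ne hodd
      have b01 : (α (-1 : SL2)).1 0 1 = 0 := (mul_eq_zero.1 (show (2 : F) * (α (-1 : SL2)).1 0 1 = 0 by linear_combination -a01)).resolve_left two
      have b10 : (α (-1 : SL2)).1 1 0 = 0 := (mul_eq_zero.1 (show (2 : F) * (α (-1 : SL2)).1 1 0 = 0 by linear_combination -a10)).resolve_left two
      have hd := (α (-1 : SL2)).2
      rw [det_fin_two, b01, b10] at hd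
      have h00 := congrFun (congrFun (congrArg Subtype.val hx) 0) 0
      simp [Matrix.mul_apply, Fin.sum_univ_two, b01] at h00
      have hne : α (-1 : SL2) ≠ 1 := fun e => neg_one_ne hodd (hα (e.trans (map_one α).symm))
      rcases mul_self_eq_one_iff.1 h00 with e | e
      · exfalso
        refine hne (Subtype.ext ?_)
        rw [e] at hd
        rw [eta_fin_two (α (-1 : SL2)).1, b01, b10, e, show (α (-1 : SL2)).1 1 1 = 1 by simpa using hd]
        exact one_fin_two.symm
      · rw [e] at hd
        rw [eta_fin_two (α (-1 : SL2)).1, b01, b10, e, show (α (-1 : SL2)).1 1 1 = -1 by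
          linear_combination -hd, Matrix.SpecialLinearGroup.coe_neg]
        ext i j; fin_cases i <;> fin_cases j <;> simp
    rw [hs, map_mul α (-1), hm1, hw t ht, neg_one_mul] at h
    have h00 := congrFun (congrFun (congrArg Subtype.val h) 0) 0
    rw [sgn2_val, Matrix.SpecialLinearGroup.coe_neg, wv] at h00
    simp at h00
    have two := two_ne hodd
    have : (2 : F) * (f t * g t⁻¹ - 1) = 0 := by linear_combination -h00
    linear_combination (mul_eq_zero.1 this).resolve_left two
  have fne : ∀ t, t ≠ 0 → f t ≠ 0 := fun t ht h => ht (hinjf (h.trans f0.symm))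
  have hsq : ∀ t, t ≠ 0 → f (t ^ 2) * f 1 = f t ^ 2 := by
    intro t ht
    have key : ue t * le' (-t⁻¹) * ue t * ue 1 = le' (-(t ^ 2)⁻¹) * (ue t * le' (-t⁻¹) * ue t) := by
      refine Subtype.ext ?_
      rw [Matrix.SpecialLinearGroup.coe_mul, Matrix.SpecialLinearGroup.coe_mul (le' _), wv, ue_val, le'_val, mul_fin_two, mul_fin_two]
      ext i j
      fin_cases i <;> fin_cases j <;> simp <;> field_simp <;> (try ring)
      all_goals tauto
    have h := congrArg α key
    rw [map_mul, hw t ht, map_mul, hw t ht, hf, hg, gneg] at h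
    have h11 := congrFun (congrFun (congrArg Subtype.val h) 1) 1
    rw [Matrix.SpecialLinearGroup.coe_mul, Matrix.SpecialLinearGroup.coe_mul (le' _), wv, ue_val, le'_val, mul_fin_two, mul_fin_two] at h11
    simp at h11
    have i1 := inv1 t ht
    have i2 := inv1 (t ^ 2) (pow_ne_zero 2 ht)
    -- h11 : -g t⁻¹ * f 1 + (…) = -g (t^2)⁻¹ * (…) + …
    have hgt : g t⁻¹ = (f t)⁻¹ := eq_inv_of_mul_eq_one_right i1
    have hgt2 : g (t ^ 2)⁻¹ = (f (t ^ 2))⁻¹ := eq_inv_of_mul_eq_one_right i2
    rw [hgt, show (g (t ^ 2)⁻¹) = (f (t ^ 2))⁻¹ from hgt2] at h11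
    have n1 := fne t ht
    have n2 := fne (t ^ 2) (pow_ne_zero 2 ht)
    field_simp at h11
    linear_combination h11
  have hc : f 1 ≠ 0 := fne 1 one_ne_zero
  refine ⟨{ toFun := fun t => (f 1)⁻¹ * f t, map_one' := inv_mul_cancel₀ hc, map_zero' := by simp [f0],
            map_add' := fun a b => by rw [fadd, mul_add], map_mul' := ?_ }, f 1, hc, fun t => ?_, fun t => ?_⟩
  · intro a b
    have sq' : ∀ x, f (x ^ 2) * f 1 = f x ^ 2 := fun x => by
      rcases eq_or_ne x 0 with rfl | hx
      · simp [f0]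
      · exact hsq x hx
    have two := two_ne hodd
    have e := sq' (a + b)
    rw [show (a + b) ^ 2 = a ^ 2 + (a * b + a * b) + b ^ 2 by ring, fadd, fadd, fadd, fadd a b] at e
    have : (2 : F) * (f (a * b) * f 1 - f a * f b) = 0 := by linear_combination e - sq' a - sq' b
    have h' := (mul_eq_zero.1 this).resolve_left two
    field_simp
    linear_combination h'
  · show α (ue t) = ue (f 1 * ((f 1)⁻¹ * f t))
    rw [mul_inv_cancel_left₀ hc, hf]
  · show α (le' t) = le' ((f 1)⁻¹ * ((f 1)⁻¹ * f t))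
    rw [hg]
    congr 1
    rcases eq_or_ne t 0 with rfl | ht
    · simp [f0, g0]
    · have i1 := inv1 t⁻¹ (inv_ne_zero ht)
      rw [inv_inv] at i1
      have hb : f t * f t⁻¹ * 1 = f 1 * f 1 := by
        have sq' : ∀ x, f (x ^ 2) * f 1 = f x ^ 2 := fun x => by
          rcases eq_or_ne x 0 with rfl | hx
          · simp [f0]
          · exact hsq x hx
        have e := sq' (t + t⁻¹)
        rw [show (t + t⁻¹) ^ 2 = t ^ 2 + (1 + 1) + t⁻¹ ^ 2 by field_simp; ring, fadd, fadd, fadd, fadd t] at e
        have two := two_ne hodd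
        have : (2 : F) * (f 1 * f 1 - f t * f t⁻¹) = 0 := by linear_combination e - sq' t - sq' t⁻¹
        linear_combination -(mul_eq_zero.1 this).resolve_left two
      have n1 := fne t⁻¹ (inv_ne_zero ht)
      field_simp
      apply mul_left_cancel₀ n1
      linear_combination (f 1) ^ 2 * i1 - hb

end Align

end Cfsg.Agent.Lie.CTA
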