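import Cfsg.Agent.Lib.Lie.CTA.Blocks

/-!
Two commuting involutions of `SL₃` in a common frame, and the standard position of a pair of `SL₂`'s
generating `SL₃` or `PSL₃` in odd characteristic.
-/

set_option autoImplicit false
set_option linter.unusedSectionVars false
set_option linter.style.haveILetI false

namespace Cfsg.Agent.Lie.CTA

open Matrix

variable {F : Type*} [Field F] [Fintype F]

local notation "SL2" => Matrix.SpecialLinearGroup (Fin 2) F
local notation "SL3" => Matrix.SpecialLinearGroup (Fin 3) F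

section Inv

variable (hodd : Odd (Fintype.card F))

include hodd

/-- An involution of `SL₃` fixes exactly one line. -/
theorem inv_fix {Z : SL3} (h2 : Z * Z = 1) (h1 : Z ≠ 1) :
    ∃ p : Fin 3 → F, p ≠ 0 ∧ Z.1 *ᵥ p = p ∧ (∀ v, Z.1 *ᵥ v = v → ∃ c : F, v = c • p) ∧
      Module.finrank F (LinearMap.ker (Z.1.mulVecLin + 1)) = 2 := by
  have two := two_ne hodd
  have hsq : ∀ v, Z.1 *ᵥ (Z.1 *ᵥ v) = v := fun v => by
    rw [mulVec_mulVec, ← Matrix.SpecialLinearGroup.coe_mul, h2, Matrix.SpecialLinearGroup.coe_one, one_mulVec]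
  set U := LinearMap.ker (Z.1.mulVecLin - 1) with hU
  set W := LinearMap.ker (Z.1.mulVecLin + 1) with hW
  have memU : ∀ v, v ∈ U ↔ Z.1 *ᵥ v = v := fun v => by
    simp [hU, LinearMap.mem_ker, sub_eq_zero]
  have memW : ∀ v, v ∈ W ↔ Z.1 *ᵥ v = -v := fun v => by
    simp [hW, LinearMap.mem_ker, add_eq_zero_iff_eq_neg]
  have hc : IsCompl U W := by
    refine IsCompl.of_eq ?_ ?_
    · rw [Submodule.eq_bot_iff]
      intro v hv
      have hu := (memU v).1 hv.1
      have hw := (memW v).1 hv.2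
      rw [hu] at hw
      have : (2 : F) • v = 0 := by rw [two_smul]; nth_rewrite 2 [hw]; rw [add_neg_cancel]
      exact (smul_eq_zero.1 this).resolve_left two
    · rw [eq_top_iff]
      intro v _
      refine Submodule.mem_sup.2 ⟨(2 : F)⁻¹ • (v + Z.1 *ᵥ v), (memU _).2 ?_, (2 : F)⁻¹ • (v - Z.1 *ᵥ v),
        (memW _).2 ?_, ?_⟩
      · rw [mulVec_smul, mulVec_add, hsq, add_comm]
      · rw [mulVec_smul, mulVec_sub, hsq, ← smul_neg, neg_sub]
      · rw [← smul_add, add_add_sub_cancel, ← two_smul F v, smul_smul, inv_mul_cancel₀ two, one_smul]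
  have hsum : Module.finrank F U + Module.finrank F W = 3 := by
    rw [Submodule.finrank_add_eq_of_isCompl hc, Module.finrank_fintype_fun_eq_card, Fintype.card_fin]
  have hdet : ∀ (k : ℕ), Module.finrank F U = k → ((-1 : F) ^ (3 - k)) = 1 := by
    intro k hk
    let b := ((Module.finBasisOfFinrankEq F U hk).prod
      (Module.finBasisOfFinrankEq F W (show Module.finrank F W = 3 - k by omega))).map
        (Submodule.prodEquivOfIsCompl U W hc)
    have hb : LinearMap.toMatrix b b Z.1.mulVecLin =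
        Matrix.diagonal (Sum.elim (fun _ => (1 : F)) (fun _ => (-1 : F))) := by
      ext i j
      rw [LinearMap.toMatrix_apply]
      have e : Z.1.mulVecLin (b j) = (Sum.elim (fun _ : Fin k => (1 : F)) (fun _ : Fin (3 - k) => (-1 : F)) j) • b j := by
        rcases j with j | j
        · simp only [Sum.elim_inl, one_smul, Matrix.mulVecLin_apply]
          exact (memU _).1 (by simp [b])
        · simp only [Sum.elim_inr, neg_smul, one_smul, Matrix.mulVecLin_apply]
          exact (memW _).1 (by simp [b])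
      rw [e, map_smul, Finsupp.smul_apply, Module.Basis.repr_self, smul_eq_mul, Finsupp.single_apply,
        Matrix.diagonal_apply]
      by_cases hij : i = j
      · subst hij; simp
      · simp [hij, Ne.symm hij]
    have h := LinearMap.det_toMatrix b Z.1.mulVecLin
    rw [hb, det_diagonal, ← Matrix.toLin'_apply', LinearMap.det_toLin', Z.2] at h
    simpa using h
  have hW0 : Module.finrank F W ≠ 0 := by
    intro h0
    refine h1 (Subtype.ext (Matrix.ext_of_mulVec_single fun j => ?_))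
    have hWb : W = ⊥ := Submodule.finrank_eq_zero.1 h0
    have : Pi.single j (1 : F) ∈ U := by
      have : U = ⊤ := by
        have := hc.sup_eq_top
        rwa [hWb, sup_bot_eq] at this
      rw [this]; trivial
    rw [(memU _).1 this, Matrix.SpecialLinearGroup.coe_one, one_mulVec]
  have hU1 : Module.finrank F U = 1 := by
    have hk : Module.finrank F U ≤ 2 := by omega
    rcases (show Module.finrank F U = 0 ∨ Module.finrank F U = 1 ∨ Module.finrank F U = 2 by omega) with
      h | h | h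
    · exact absurd (hdet 0 h) (fun h => two (by linear_combination -h))
    · exact h
    · exact absurd (hdet 2 h) (fun h => two (by linear_combination -h))
  obtain ⟨⟨p, hp⟩, hp0, hspan⟩ := finrank_eq_one_iff'.1 hU1
  refine ⟨p, fun h => hp0 (Subtype.ext h), (memU p).1 hp, fun v hv => ?_, by omega⟩
  obtain ⟨c, hc'⟩ := hspan ⟨v, (memU v).2 hv⟩
  exact ⟨c, (congrArg Subtype.val hc').symm⟩

/-- Two different commuting involutions of `SL₃` are simultaneously the two standard ones. -/
theorem exists_frame {A B : SL3} (a2 : A * A = 1) (b2 : B * B = 1) (a1 : A ≠ 1) (b1 : B ≠ 1)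
    (hab : A * B = B * A) (hne : A ≠ B) : ∃ g : SL3, A * g = g * b12 (-1) ∧ B * g = g * b23 (-1) := by
  have two := two_ne hodd
  obtain ⟨p, p0, pA, pspan, pW⟩ := inv_fix hodd a2 a1
  obtain ⟨r, r0, rB, rspan, rW⟩ := inv_fix hodd b2 b1
  have comm : ∀ v, A.1 *ᵥ (B.1 *ᵥ v) = B.1 *ᵥ (A.1 *ᵥ v) := fun v => by
    rw [mulVec_mulVec, mulVec_mulVec, ← Matrix.SpecialLinearGroup.coe_mul, hab,
      Matrix.SpecialLinearGroup.coe_mul]
  have bsq : ∀ v, B.1 *ᵥ (B.1 *ᵥ v) = v := fun v => by
    rw [mulVec_mulVec, ← Matrix.SpecialLinearGroup.coe_mul, b2, Matrix.SpecialLinearGroup.coe_one, one_mulVec]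
  have asq : ∀ v, A.1 *ᵥ (A.1 *ᵥ v) = v := fun v => by
    rw [mulVec_mulVec, ← Matrix.SpecialLinearGroup.coe_mul, a2, Matrix.SpecialLinearGroup.coe_one, one_mulVec]
  obtain ⟨c, hc⟩ := pspan (B.1 *ᵥ p) (by rw [comm, pA])
  have hc2 : c * c = 1 := by
    have h := bsq p
    rw [hc, mulVec_smul, hc, smul_smul] at h
    exact smul_left_injective F p0 (h.trans (one_smul F p).symm)
  have same : ∀ q, B.1 *ᵥ p = p → A.1 *ᵥ q = -q → B.1 *ᵥ q = -q := by
    intro q hp hq
    obtain ⟨a, ha⟩ := rspan (q + B.1 *ᵥ q) (by rw [mulVec_add, bsq, add_comm])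
    obtain ⟨b, hb⟩ := rspan p hp
    have hb0 : b ≠ 0 := fun h => p0 (by rw [hb, h, zero_smul])
    have hrA : A.1 *ᵥ r = r := by
      have h := pA
      rw [hb, mulVec_smul] at h
      exact smul_right_injective _ hb0 h
    have h1 : A.1 *ᵥ (q + B.1 *ᵥ q) = -(q + B.1 *ᵥ q) := by
      rw [mulVec_add, comm, hq, mulVec_neg, neg_add]
    rw [ha, mulVec_smul, hrA] at h1
    have : (2 : F) • (a • r) = 0 := by rw [two_smul]; nth_rewrite 2 [h1]; rw [add_neg_cancel]
    rw [(smul_eq_zero.1 this).resolve_left two] at ha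
    exact eq_neg_of_add_eq_zero_right ha
  have hcm : c = -1 := by
    rcases mul_self_eq_one_iff.1 hc2 with rfl | h
    · exfalso
      rw [one_smul] at hc
      refine hne (Subtype.ext (Matrix.ext_of_mulVec_single fun j => ?_))
      have key : ∀ v, A.1 *ᵥ v = B.1 *ᵥ v := by
        intro v
        have hu : A.1 *ᵥ (v + A.1 *ᵥ v) = v + A.1 *ᵥ v := by rw [mulVec_add, asq, add_comm]
        obtain ⟨a, ha⟩ := pspan _ hu
        have hw : A.1 *ᵥ (v - A.1 *ᵥ v) = -(v - A.1 *ᵥ v) := by rw [mulVec_sub, asq, neg_sub]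
        have e1 : B.1 *ᵥ (v + A.1 *ᵥ v) = A.1 *ᵥ (v + A.1 *ᵥ v) := by rw [hu, ha, mulVec_smul, hc]
        have e2 : B.1 *ᵥ (v - A.1 *ᵥ v) = A.1 *ᵥ (v - A.1 *ᵥ v) := by rw [hw, same _ hc hw]
        have e3 : (2 : F) • (B.1 *ᵥ v) = (2 : F) • (A.1 *ᵥ v) := by
          rw [← mulVec_smul, ← mulVec_smul, show (2 : F) • v = (v + A.1 *ᵥ v) + (v - A.1 *ᵥ v) by
            rw [two_smul]; abel, mulVec_add, e1, e2, ← mulVec_add]
        exact (smul_right_injective _ two e3).symm
      exact key _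
    · exact h
  rw [hcm, neg_one_smul] at hc
  -- the fixed line of `B`
  obtain ⟨d, hd⟩ := rspan (A.1 *ᵥ r) (by rw [← comm, rB])
  have hd2 : d * d = 1 := by
    have h := asq r
    rw [hd, mulVec_smul, hd, smul_smul] at h
    exact smul_left_injective F r0 (h.trans (one_smul F r).symm)
  have rA : A.1 *ᵥ r = -r := by
    rcases mul_self_eq_one_iff.1 hd2 with rfl | rfl
    · exfalso
      rw [one_smul] at hd
      obtain ⟨e, he⟩ := pspan r hd
      have h := rB
      rw [he, mulVec_smul, hc, smul_neg, ← he] at h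
      have : (2 : F) • r = 0 := by rw [two_smul]; nth_rewrite 2 [← h]; rw [add_neg_cancel]
      exact r0 ((smul_eq_zero.1 this).resolve_left two)
    · rw [hd, neg_one_smul]
  -- the common line
  obtain ⟨q, hq, q0⟩ : ∃ q ∈ LinearMap.ker (A.1.mulVecLin + 1) ⊓ LinearMap.ker (B.1.mulVecLin + 1), q ≠ 0 := by
    refine (Submodule.ne_bot_iff _).1 fun h => ?_
    have := Submodule.finrank_sup_add_finrank_inf_eq (LinearMap.ker (A.1.mulVecLin + 1))
      (LinearMap.ker (B.1.mulVecLin + 1))
    rw [h, finrank_bot, pW, rW] at this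
    have h' := Submodule.finrank_le (LinearMap.ker (A.1.mulVecLin + 1) ⊔ LinearMap.ker (B.1.mulVecLin + 1))
    rw [Module.finrank_fintype_fun_eq_card, Fintype.card_fin] at h'
    omega
  have qA : A.1 *ᵥ q = -q := by
    have := hq.1; simpa [add_eq_zero_iff_eq_neg] using this
  have qB : B.1 *ᵥ q = -q := by
    have := hq.2; simpa [add_eq_zero_iff_eq_neg] using this
  let M : Matrix (Fin 3) (Fin 3) F := Matrix.of fun i j => (![r, q, p] : Fin 3 → Fin 3 → F) j i
  have Mv : ∀ w : Fin 3 → F, M *ᵥ w = w 0 • r + w 1 • q + w 2 • p := fun w => by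
    ext i
    simp [M, mulVec, dotProduct, Fin.sum_univ_three, mul_comm]
  have hM : M.det ≠ 0 := by
    intro h
    obtain ⟨w, w0, hw⟩ := Matrix.exists_mulVec_eq_zero_iff.2 h
    rw [Mv] at hw
    have hA := congrArg (A.1 *ᵥ ·) hw
    have hB := congrArg (B.1 *ᵥ ·) hw
    simp only [mulVec_add, mulVec_smul, rA, qA, pA, rB, qB, hc, mulVec_zero, smul_neg] at hA hB
    have z2 : (2 : F) • (w 2 • p) = 0 := by
      have := congrArg₂ (· + ·) hw hA
      simp only [add_zero] at this
      rw [two_smul]; rw [← this]; abel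
    have z0 : (2 : F) • (w 0 • r) = 0 := by
      have := congrArg₂ (· + ·) hw hB
      simp only [add_zero] at this
      rw [two_smul]; rw [← this]; abel
    have e2 := (smul_eq_zero.1 ((smul_eq_zero.1 z2).resolve_left two)).resolve_right p0
    have e0 := (smul_eq_zero.1 ((smul_eq_zero.1 z0).resolve_left two)).resolve_right r0
    rw [e0, e2, zero_smul, zero_smul, zero_add, add_zero] at hw
    have e1 := (smul_eq_zero.1 hw).resolve_right q0
    exact w0 (funext fun i => by fin_cases i <;> assumption)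
  obtain ⟨g, gv⟩ : ∃ g : SL3, ∀ w, g.1 *ᵥ w = (M.det⁻¹ * w 0) • r + w 1 • q + w 2 • p := by
    refine ⟨⟨M * Matrix.diagonal ![M.det⁻¹, 1, 1], by
      rw [det_mul, det_diagonal, Fin.prod_univ_three]; simp [hM]⟩, fun w => ?_⟩
    show (M * Matrix.diagonal ![M.det⁻¹, 1, 1]) *ᵥ w = _
    rw [← mulVec_mulVec, Mv]
    simp [mulVec_diagonal]
  refine ⟨g, Subtype.ext (Matrix.ext_of_mulVec_single fun j => ?_),
    Subtype.ext (Matrix.ext_of_mulVec_single fun j => ?_)⟩ <;>
    rw [Matrix.SpecialLinearGroup.coe_mul, Matrix.SpecialLinearGroup.coe_mul, ← mulVec_mulVec, ← mulVec_mulVec,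
      gv, gv, mulVec_add, mulVec_add, mulVec_smul, mulVec_smul, mulVec_smul]
  · rw [rA, qA, pA, b12_val, smul_neg, smul_neg, ← neg_smul, ← neg_smul]
    congr 2 <;> congr 1 <;> simp [mulVec, dotProduct, Fin.sum_univ_three]
  · rw [rB, qB, hc, b23_val, smul_neg, smul_neg, ← neg_smul, ← neg_smul]
    congr 2 <;> congr 1 <;> simp [mulVec, dotProduct, Fin.sum_univ_three]

end Inv

end Cfsg.Agent.Lie.CTA
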