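import Cfsg.Agent.Lib.Lie.CTA.SLTools
import Cfsg.Agent.Lib.Small.SteinbergSLn
import Cfsg.Agent.Lib.Small.PSLn.Simple
import Cfsg.Agent.Lib.Lie.Diagonal
import Cfsg.Agent.Lib.Lie.Unipotent

/-!
Copies of `SL₃` on two adjacent fundamental roots of a Chevalley group.
-/

set_option autoImplicit false
set_option linter.unusedSectionVars false
set_option linter.style.haveILetI false

namespace Cfsg.Agent.Lie.CTA

open Matrix Cfsg.Lie
open scoped commutatorElement

variable {F : Type*} [Field F] [Fintype F]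

local notation "SL2" => Matrix.SpecialLinearGroup (Fin 2) F
local notation "SL3" => Matrix.SpecialLinearGroup (Fin 3) F

/-- Steinberg's relations define a homomorphism from `SL_n`. -/
theorem hom_of_rels {n : ℕ} {H : Type*} [Group H] (hn : 3 ≤ n) (X : Fin n → Fin n → F → H)
    (hadd : ∀ i j, i ≠ j → ∀ t u, X i j t * X i j u = X i j (t + u))
    (hcomm : ∀ i j k m, i ≠ j → k ≠ m → i ≠ m → j ≠ k → ∀ t u, Commute (X i j t) (X k m u))
    (h3 : ∀ i j m, i ≠ j → j ≠ m → i ≠ m → ∀ t u, X i j t * X j m u = X i m (t * u) * X j m u * X i j t) :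
    ∃ Φ : Matrix.SpecialLinearGroup (Fin n) F →* H, ∀ i j, i ≠ j → ∀ t, Φ (tv' i j t) = X i j t := by
  let x : Fin n → Fin n → F → H × Matrix.SpecialLinearGroup (Fin n) F := fun i j t => (X i j t, tv' i j t)
  let S : Cfsg.Agent.Small.SteinbergSLn.St n F (H × Matrix.SpecialLinearGroup (Fin n) F) :=
    { x := x
      φ := MonoidHom.snd _ _
      φx := fun i j h t => by show tv' i j t = _; rw [tv', dif_pos h]
      xadd := fun i j h t u => Prod.ext (hadd i j h t u) (tv'_add h t u)
      comm := fun i j k m a b c d t u => Commute.prod (hcomm i j k m a b c d t u) (tv'_comm a b c d t u)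
      comm3 := fun i j m a b c t u => Prod.ext (h3 i j m a b c t u) (tv'_comm3 a b c t u)
      three := hn }
  obtain ⟨Γ, hΓ⟩ : ∃ Γ : Subgroup (H × Matrix.SpecialLinearGroup (Fin n) F), Γ = S.gen Finset.univ := ⟨_, rfl⟩
  let π : Γ →* Matrix.SpecialLinearGroup (Fin n) F := (MonoidHom.snd _ _).comp Γ.subtype
  have hi : Function.Injective π := by
    rw [injective_iff_map_eq_one]
    rintro ⟨g, hg⟩ h1
    exact Subtype.ext (S.inj Finset.univ g (hΓ ▸ hg) h1)
  have hmem : ∀ i j, i ≠ j → ∀ t, x i j t ∈ Γ := fun i j h t => by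
    rw [hΓ]; exact S.x_mem_gen (Finset.mem_univ _) (Finset.mem_univ _) h t
  haveI : Nontrivial (Fin n) := Fin.nontrivial_iff_two_le.2 (by omega)
  have hs : Function.Surjective π := by
    rw [← MonoidHom.range_eq_top, eq_top_iff, ← Cfsg.Agent.Classical.sl_closure_transvections, Subgroup.closure_le]
    rintro _ ⟨i, j, h, t, rfl⟩
    exact ⟨⟨_, hmem i j h t⟩, by show tv' i j t = _; rw [tv', dif_pos h]⟩
  let e := MulEquiv.ofBijective π ⟨hi, hs⟩
  refine ⟨((MonoidHom.fst _ _).comp Γ.subtype).comp e.symm.toMonoidHom, fun i j h t => ?_⟩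
  have : e.symm (tv' i j t) = ⟨_, hmem i j h t⟩ := (MulEquiv.symm_apply_eq _).2 rfl
  simp [MonoidHom.comp_apply, this, x]

/-- The root at a position of `SL₃`. -/
def rho (D : ChevalleyDatum) (a b : ℕ) (i j : Fin 3) : ℕ :=
  match i.val, j.val with
  | 0, 1 => a
  | 1, 0 => D.neg a
  | 1, 2 => b
  | 2, 1 => D.neg b
  | 0, 2 => (D.chainRoot a b 1).getD 0
  | _, _ => (D.chainRoot (D.neg a) (D.neg b) 1).getD 0

/-- The sign at a position of `SL₃`. -/
def rsg (D : ChevalleyDatum) (a b : ℕ) (i j : Fin 3) : ℤ :=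
  match i.val, j.val with
  | 0, 2 => - D.chainM b a 1
  | 2, 0 => - D.chainM (D.neg a) (D.neg b) 1
  | _, _ => 1

/-- Two fundamental roots joined by a simple bond. -/
def okTri (D : ChevalleyDatum) (a b : ℕ) : Bool :=
  decide (∀ i j : Fin 3, i ≠ j → rho D a b i j < D.nroots) &&
  decide (∀ i j k m : Fin 3, i ≠ j → k ≠ m → i ≠ m → j ≠ k → (i = k ∧ j = m) ∨
    (rho D a b k m ≠ rho D a b i j ∧ rho D a b k m ≠ D.neg (rho D a b i j) ∧
      D.commTerms (rho D a b i j) (rho D a b k m) = [])) &&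
  decide (∀ i j l : Fin 3, i ≠ j → j ≠ l → i ≠ l → rho D a b i j ≠ rho D a b j l ∧
    rho D a b i j ≠ D.neg (rho D a b j l) ∧
      D.commTerms (rho D a b j l) (rho D a b i j) =
        [(rho D a b i l, -(rsg D a b j l * rsg D a b i j * rsg D a b i l), 1, 1)] ∧
      rsg D a b i l * rsg D a b i l = 1) &&
  (List.range D.nroots).any (fun s => decide ((D.pairing a s + 2 * D.pairing b s) % 3 ≠ 0))

variable {D : ChevalleyDatum} (hF : Facts D)

theorem xg_ne_one {r : ℕ} (hr : r < D.nroots) {t : F} (ht : t ≠ 0) : hF.xg r t ≠ 1 := fun h => ht (by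
  have h' := congrArg (fun z : GL D.Idx F => z.val) h
  simp only [Facts.coe_xg, Units.val_one] at h'
  exact (hF.x_eq_one r hr t).1 h')

theorem center_or_top {n : ℕ} (hn : 3 ≤ n) (N : Subgroup (Matrix.SpecialLinearGroup (Fin n) F)) [N.Normal] :
    N ≤ Subgroup.center _ ∨ N = ⊤ := by
  haveI := Cfsg.Agent.Small.PSLn.psl_simple (F := F) hn
  rcases IsSimpleGroup.eq_bot_or_eq_top_of_normal
      (N.map (QuotientGroup.mk' (Subgroup.center (Matrix.SpecialLinearGroup (Fin n) F))))
      (Subgroup.Normal.map inferInstance _ (QuotientGroup.mk'_surjective _)) with h | h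
  · left
    intro x hx
    have : QuotientGroup.mk' (Subgroup.center _) x ∈ N.map (QuotientGroup.mk' (Subgroup.center _)) := ⟨x, hx, rfl⟩
    rw [h, Subgroup.mem_bot] at this
    exact (QuotientGroup.eq_one_iff x).1 this
  · right
    have hsup : ∀ x, ∃ k ∈ N, ∃ c ∈ Subgroup.center (Matrix.SpecialLinearGroup (Fin n) F), x = k * c := by
      intro x
      have hx : QuotientGroup.mk' (Subgroup.center _) x ∈ N.map (QuotientGroup.mk' (Subgroup.center _)) := by
        rw [h]; trivial
      obtain ⟨k, hk, hkx⟩ := hx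
      exact ⟨k, hk, k⁻¹ * x, QuotientGroup.eq.1 hkx, by group⟩
    rw [eq_top_iff, ← Cfsg.Agent.Classical.sl_commutator_eq_top (ι := Fin n) (F := F) (by simpa using hn),
      commutator_def, Subgroup.commutator_le]
    intro x _ y _
    obtain ⟨k, hk, c, hc, rfl⟩ := hsup x
    obtain ⟨k', hk', c', hc', rfl⟩ := hsup y
    have e1 := fun g => Subgroup.mem_center_iff.1 hc g
    have e2 := fun g => Subgroup.mem_center_iff.1 hc' g
    have : ⁅k * c, k' * c'⁆ = ⁅k, k'⁆ := by
      have a1 : k * c * (k' * c') = k * k' * (c * c') := by rw [mul_assoc k c, ← mul_assoc c, ← e1 k']; group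
      have a2 : k' * c' * (k * c) = k' * k * (c * c') := by rw [mul_assoc k' c', ← mul_assoc c', ← e2 k, e2 c]; group
      rw [commutatorElement_def, commutatorElement_def, mul_assoc (k * c * (k' * c')), ← _root_.mul_inv_rev, a1, a2]
      group
    rw [this, commutatorElement_def]
    exact mul_mem (mul_mem (mul_mem hk hk') (inv_mem hk)) (inv_mem hk')

include hF in
/-- The copy of `SL₃`. -/
theorem exists_tri {a b : ℕ} (hok : okTri D a b = true) :
    ∃ π : SL3 →* GL D.Idx F, Function.Injective π ∧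
      (∀ t, π (b12 (ue t)) = hF.xg a t ∧ π (b12 (le' t)) = hF.xg (D.neg a) t ∧
        π (b23 (ue t)) = hF.xg b t ∧ π (b23 (le' t)) = hF.xg (D.neg b) t) := by
  simp only [okTri, Bool.and_eq_true, decide_eq_true_eq, List.any_eq_true, List.mem_range] at hok
  obtain ⟨⟨⟨hlt, hcom⟩, h3⟩, s, hs, hsmod⟩ := hok
  let X : Fin 3 → Fin 3 → F → GL D.Idx F := fun i j t => hF.xg (rho D a b i j) ((rsg D a b i j : F) * t)
  obtain ⟨π, hπ⟩ := hom_of_rels (H := GL D.Idx F) le_rfl X
    (fun i j _ t u => by simp only [X]; rw [← hF.xg_add, mul_add])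
    (fun i j k m h1 h2 h4 h5 t u => by
      rcases hcom i j k m h1 h2 h4 h5 with ⟨rfl, rfl⟩ | ⟨e1, e2, e3⟩
      · simp only [X, commute_iff_eq, ← hF.xg_add, add_comm]
      · have h := (hF.sys F).x_comm _ _ (hlt i j h1) (hlt k m h2) e1 e2
          ((rsg D a b i j : F) * t) ((rsg D a b k m : F) * u)
        simp only [ChevalleyDatum.commWord, e3, List.map_nil, List.prod_nil, mul_one] at h
        exact h.symm)
    (fun i j l h1 h2 h4 t u => by
      obtain ⟨e1, e2, e3, e4⟩ := h3 i j l h1 h2 h4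
      have h := (hF.sys F).x_comm _ _ (hlt j l h2) (hlt i j h1) e1 e2
        ((rsg D a b j l : F) * u) ((rsg D a b i j : F) * t)
      simp only [ChevalleyDatum.commWord, e3, List.map_cons, List.map_nil, List.prod_singleton, Facts.sys_x, pow_one,
        Int.cast_neg, Int.cast_mul] at h
      -- the commutator term is central among the three
      have hc1 : Commute (X i l (t * u)) (X j l u) := by
        rcases hcom i l j l h4 h2 h4 h2.symm with ⟨rfl, -⟩ | ⟨f1, f2, f3⟩
        · exact absurd rfl h1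
        · have h' := (hF.sys F).x_comm _ _ (hlt i l h4) (hlt j l h2) f1 f2
            ((rsg D a b i l : F) * (t * u)) ((rsg D a b j l : F) * u)
          simp only [ChevalleyDatum.commWord, f3, List.map_nil, List.prod_nil, mul_one] at h'
          exact h'.symm
      have hc2 : Commute (X i l (t * u)) (X i j t) := by
        rcases hcom i l i j h4 h1 h1 h4.symm with ⟨-, rfl⟩ | ⟨f1, f2, f3⟩
        · exact absurd rfl h2
        · have h' := (hF.sys F).x_comm _ _ (hlt i l h4) (hlt i j h1) f1 f2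
            ((rsg D a b i l : F) * (t * u)) ((rsg D a b i j : F) * t)
          simp only [ChevalleyDatum.commWord, f3, List.map_nil, List.prod_nil, mul_one] at h'
          exact h'.symm
      have e4' : (rsg D a b i j : F) * (rsg D a b i j : F) * ((rsg D a b j l : F) * (rsg D a b j l : F)) = 1 := by
        have hsq : ∀ p q : Fin 3, p ≠ q → (rsg D a b p q : F) * (rsg D a b p q : F) = 1 := by
          intro p q hpq
          obtain ⟨r, hpr, hrq⟩ : ∃ r : Fin 3, p ≠ r ∧ r ≠ q := by
            revert p q; decide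
          rw [← Int.cast_mul, (h3 p r q hpr hrq hpq).2.2.2, Int.cast_one]
        rw [hsq i j h1, hsq j l h2, one_mul]
      have hw : hF.xg (rho D a b i l) (-((rsg D a b j l : F) * (rsg D a b i j : F) * (rsg D a b i l : F)) *
          -((rsg D a b j l : F) * u) * ((rsg D a b i j : F) * t)) = X i l (t * u) := by
        simp only [X]
        congr 1
        linear_combination ((rsg D a b i l : F) * t * u) * e4'
      rw [hw] at h
      calc X i j t * X j l u = X j l u * X i j t * X i l (t * u) := h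
        _ = X i l (t * u) * X j l u * X i j t := by
          rw [mul_assoc, ← hc2.eq, ← mul_assoc, ← hc1.eq])
  have e01 : ∀ t, π (b12 (ue t)) = hF.xg a t := fun t => by
    rw [show b12 (ue t) = tv' (0 : Fin 3) 1 t from emb2_ue _ t, hπ _ _ (by decide)]; simp [X, rho, rsg]
  have e10 : ∀ t, π (b12 (le' t)) = hF.xg (D.neg a) t := fun t => by
    rw [show b12 (le' t) = tv' (1 : Fin 3) 0 t from emb2_le' _ t, hπ _ _ (by decide)]; simp [X, rho, rsg]
  have e12 : ∀ t, π (b23 (ue t)) = hF.xg b t := fun t => by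
    rw [show b23 (ue t) = tv' (1 : Fin 3) 2 t from emb2_ue _ t, hπ _ _ (by decide)]; simp [X, rho, rsg]
  have e21 : ∀ t, π (b23 (le' t)) = hF.xg (D.neg b) t := fun t => by
    rw [show b23 (le' t) = tv' (2 : Fin 3) 1 t from emb2_le' _ t, hπ _ _ (by decide)]; simp [X, rho, rsg]
  refine ⟨π, ?_, fun t => ⟨e01 t, e10 t, e12 t, e21 t⟩⟩
  rw [← MonoidHom.ker_eq_bot_iff, Subgroup.eq_bot_iff_forall]
  intro c hc
  have ha : a < D.nroots := hlt 0 1 (by decide)
  have hb : b < D.nroots := hlt 1 2 (by decide)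
  rcases center_or_top (F := F) le_rfl π.ker with h | h
  · obtain ⟨r, hr, hrc⟩ := Matrix.SpecialLinearGroup.mem_center_iff.1 (h hc)
    have hr3 : r ^ 3 = 1 := by simpa using hr
    have hr0 : r ≠ 0 := fun e => by rw [e] at hr3; simp at hr3
    obtain ⟨d, hd⟩ : ∃ d : F → SL2, ∀ x, x ≠ 0 → (d x).1 = !![x, 0; 0, x⁻¹] := by
      classical
      refine ⟨fun x => if hx : x ≠ 0 then ⟨!![x, 0; 0, x⁻¹], by rw [det_fin_two_of]; simp [hx]⟩ else 1,
        fun x hx => ?_⟩
      simp [hx]
    have dw : ∀ x, x ≠ 0 → d x = ue x * le' (-x⁻¹) * ue x * (ue (-1) * le' 1 * ue (-1)) := fun x hx => by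
      refine Subtype.ext ?_
      simp only [Matrix.SpecialLinearGroup.coe_mul, hd x hx, ue_val, le'_val, mul_fin_two]
      ext i j; fin_cases i <;> fin_cases j <;> simp [hx]
    have hda : ∀ x, x ≠ 0 → π (b12 (d x)) = hF.hg a x := fun x hx => by
      rw [dw x hx, hF.hg_eq, hF.ng_eq, hF.ng_eq]
      simp only [map_mul, e01, e10, inv_neg, inv_one, _root_.neg_neg, mul_assoc]
    have hdb : ∀ x, x ≠ 0 → π (b23 (d x)) = hF.hg b x := fun x hx => by
      rw [dw x hx, hF.hg_eq, hF.ng_eq, hF.ng_eq]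
      simp only [map_mul, e12, e21, inv_neg, inv_one, _root_.neg_neg, mul_assoc]
    have hcv : c = b12 (d r) * b23 (d (r ^ 2)) := by
      refine Subtype.ext ?_
      rw [← hrc, Matrix.SpecialLinearGroup.coe_mul, b12_val, b23_val, hd r hr0, hd _ (pow_ne_zero 2 hr0)]
      ext i j
      fin_cases i <;> fin_cases j <;> simp [Matrix.mul_apply, Fin.sum_univ_three]
      · field_simp
      · exact eq_inv_of_mul_eq_one_left (by linear_combination hr3)
    rw [MonoidHom.mem_ker, hcv, map_mul, hda r hr0, hdb _ (pow_ne_zero 2 hr0)] at hc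
    have hc' := congrArg (fun z : GL D.Idx F => z.val (Sum.inr ⟨s, hs⟩) (Sum.inr ⟨s, hs⟩)) hc
    simp only [Units.val_mul, Units.val_one, hF.hMat_eq a ha r hr0, hF.hMat_eq b hb _ (pow_ne_zero 2 hr0),
      diagM, Matrix.diagonal_mul_diagonal, Matrix.diagonal_apply_eq, Matrix.one_apply_eq, Sum.elim_inr] at hc'
    have hr1 : r = 1 := by
      have hk : r ^ (D.pairing a s + 2 * D.pairing b s) = 1 := by
        rw [zpow_add₀ hr0, _root_.zpow_mul, zpow_ofNat]; exact hc'
      have h3' : r ^ (3 : ℤ) = 1 := by rw [zpow_ofNat]; exact hr3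
      have hm : r ^ ((D.pairing a s + 2 * D.pairing b s) % 3) = 1 := by
        rw [Int.emod_def, zpow_sub₀ hr0, hk, _root_.zpow_mul, h3', _root_.one_zpow, div_one]
      rcases (show (D.pairing a s + 2 * D.pairing b s) % 3 = 1 ∨ (D.pairing a s + 2 * D.pairing b s) % 3 = 2 by omega)
        with e | e <;> rw [e] at hm
      · rwa [zpow_one] at hm
      · rw [zpow_ofNat] at hm
        calc r = r ^ 3 * (r ^ 2)⁻¹ := by field_simp
          _ = 1 := by rw [hr3, hm, inv_one, mul_one]
    exact Subtype.ext (by rw [← hrc, hr1, map_one]; rfl)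
  · exfalso
    have : b12 (ue (1 : F)) ∈ π.ker := by rw [h]; trivial
    rw [MonoidHom.mem_ker, e01] at this
    exact xg_ne_one hF ha one_ne_zero this

end Cfsg.Agent.Lie.CTA
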