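import Cfsg.Agent.Lib.Lie.CTA.SLTools

/-!
The abelian group attached to an end node: the orbit map of the vectors of `Fⁿ`.
-/

set_option autoImplicit false
set_option linter.unusedSectionVars false
set_option linter.style.haveILetI false

namespace Cfsg.Agent.Lie.CTA

open Matrix

variable {F : Type*} [Field F] [Fintype F] {G : Type*} [Group G]

local notation "SL2" => Matrix.SpecialLinearGroup (Fin 2) F
local notation "SL3" => Matrix.SpecialLinearGroup (Fin 3) F

/-- `SL_{l+1}` extended by one node at the end. -/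
structure Node (F : Type*) [Field F] (G : Type*) [Group G] (l : ℕ) where
  a : Fin l
  ha : a.val + 1 = l
  two : 2 ≤ l
  Φ : Matrix.SpecialLinearGroup (Fin (l + 1)) F →* G
  φ : Matrix.SpecialLinearGroup (Fin 2) F →* G
  ψ : Matrix.SpecialLinearGroup (Fin 3) F →* G
  hψ1 : ψ.comp b12 = Φ.comp (emb2 (Fin.castSucc_lt_last a).ne)
  hψ2 : ψ.comp b23 = φ
  far : ∀ (i j : Fin l) (t u : F),
    (i.val = j.val + 1 ∨ j.val = i.val + 1) → Commute (Φ (tv' i.castSucc j.castSucc t)) (φ (ue u)) ∧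
      Commute (Φ (tv' i.castSucc j.castSucc t)) (φ (le' u))

namespace Node

variable {l : ℕ} (N : Node F G l)

/-- The last index. -/
abbrev b (_ : Node F G l) : Fin (l + 1) := Fin.last l

theorem ab : N.a.castSucc ≠ N.b := (Fin.castSucc_lt_last N.a).ne

theorem b12_tv (t : F) : b12 (ue t) = tv' (0 : Fin 3) 1 t := emb2_ue _ t

theorem b23_tv (t : F) : b23 (ue t) = tv' (1 : Fin 3) 2 t := emb2_ue _ t

theorem φ_ue (t : F) : N.φ (ue t) = N.ψ (tv' 1 2 t) := by
  rw [← N.hψ2, MonoidHom.comp_apply, b23_tv]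

theorem φ_le (t : F) : N.φ (le' t) = N.ψ (tv' 2 1 t) := by
  rw [← N.hψ2, MonoidHom.comp_apply]
  exact congrArg N.ψ (emb2_le' _ t)

theorem Φ_ab (g : SL2) : N.Φ (emb2 N.ab g) = N.ψ (b12 g) := by
  rw [← MonoidHom.comp_apply N.ψ b12, N.hψ1]; rfl

/-- The dual node. -/
def dual : Node F G l where
  a := N.a
  ha := N.ha
  two := N.two
  Φ := N.Φ.comp theta
  φ := N.φ.comp theta
  ψ := N.ψ.comp theta
  hψ1 := MonoidHom.ext fun g => by
    show N.ψ (theta (b12 g)) = N.Φ (theta (emb2 _ g))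
    rw [theta_b12, theta_emb2 N.ab, N.Φ_ab]
  hψ2 := MonoidHom.ext fun g => by
    show N.ψ (theta (b23 g)) = N.φ (theta g)
    rw [theta_b23, ← N.hψ2]; rfl
  far i j t u hij := by
    have hne : i.castSucc ≠ j.castSucc := fun e => by
      have := Fin.castSucc_injective _ e; subst this; omega
    simp only [MonoidHom.comp_apply, theta_tv' hne, theta_ue, theta_le']
    exact ⟨(N.far j i (-t) (-u) hij.symm).2, (N.far j i (-t) (-u) hij.symm).1⟩

/-- The centraliser of the upper root group of the end node, pulled back. -/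
def cen : Subgroup (Matrix.SpecialLinearGroup (Fin (l + 1)) F) :=
  (Subgroup.centralizer (Set.range fun u => N.φ (ue u))).comap N.Φ

theorem mem_cen {g : Matrix.SpecialLinearGroup (Fin (l + 1)) F} :
    g ∈ N.cen ↔ ∀ u, N.φ (ue u) * N.Φ g = N.Φ g * N.φ (ue u) := by
  rw [cen, Subgroup.mem_comap, Subgroup.mem_centralizer_iff]
  exact ⟨fun h u => h _ ⟨u, rfl⟩, fun h x hx => by obtain ⟨u, rfl⟩ := hx; exact h u⟩

theorem cen_gen {p q r : Fin (l + 1)} (h1 : p ≠ r) (h2 : r ≠ q) (h3 : p ≠ q)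
    (hpr : ∀ t, tv' p r t ∈ N.cen) (hrq : ∀ t, tv' r q t ∈ N.cen) (t : F) : tv' p q t ∈ N.cen := by
  have h := tv'_comm3 h1 h2 h3 t 1
  rw [mul_one] at h
  have : tv' p q t = tv' p r t * tv' r q 1 * (tv' p r t)⁻¹ * (tv' r q 1)⁻¹ := by rw [h]; group
  rw [this]
  exact mul_mem (mul_mem (mul_mem (hpr t) (hrq 1)) (inv_mem (hpr t))) (inv_mem (hrq 1))

theorem low_mem : ∀ (d : ℕ) (p q : Fin l), (p.val = q.val + d + 1 ∨ q.val = p.val + d + 1) →
    ∀ t, tv' p.castSucc q.castSucc t ∈ N.cen := by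
  intro d
  induction d with
  | zero =>
    intro p q hpq t
    rw [mem_cen]
    exact fun u => ((N.far p q t u hpq).1).eq.symm
  | succ d ih =>
    intro p q hpq
    have hp := p.isLt
    have hq := q.isLt
    rcases hpq with h | h
    · obtain ⟨r, hr⟩ : ∃ r : Fin l, r.val = q.val + 1 := ⟨⟨q.val + 1, by omega⟩, rfl⟩
      refine N.cen_gen (r := r.castSucc) ?_ ?_ ?_ (ih p r (Or.inl (by omega))) ?_
      · simp [Fin.ext_iff]; omega
      · simp [Fin.ext_iff]; omega
      · simp [Fin.ext_iff]; omega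
      · intro t; rw [mem_cen]; exact fun u => ((N.far r q t u (Or.inl hr)).1).eq.symm
    · obtain ⟨r, hr⟩ : ∃ r : Fin l, r.val = p.val + 1 := ⟨⟨p.val + 1, by omega⟩, rfl⟩
      refine N.cen_gen (r := r.castSucc) ?_ ?_ ?_ ?_ (ih r q (Or.inr (by omega)))
      · simp [Fin.ext_iff]; omega
      · simp [Fin.ext_iff]; omega
      · simp [Fin.ext_iff]; omega
      · intro t; rw [mem_cen]; exact fun u => ((N.far p r t u (Or.inr hr)).1).eq.symm

theorem tv'_mem_cen {p q : Fin (l + 1)} (hpq : p ≠ q) (hq : q ≠ Fin.last l) (t : F) : tv' p q t ∈ N.cen := by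
  have hb : ∀ t, tv' (Fin.last l) N.a.castSucc t ∈ N.cen := by
    intro t
    rw [mem_cen]
    intro u
    rw [show tv' (Fin.last l) N.a.castSucc t = emb2 N.ab (le' t) from (emb2_le' N.ab t).symm, N.Φ_ab, N.φ_ue,
      ← map_mul, ← map_mul, show b12 (le' t) = tv' (1 : Fin 3) 0 t from emb2_le' _ t,
      (tv'_comm (show (1 : Fin 3) ≠ 2 by decide) (show (1 : Fin 3) ≠ 0 by decide) (show (1 : Fin 3) ≠ 0 by decide)
        (show (2 : Fin 3) ≠ 1 by decide) u t).eq]
  -- arbitrary indices below the last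
  have low : ∀ (p q : Fin l), p ≠ q → ∀ t, tv' p.castSucc q.castSucc t ∈ N.cen := by
    intro p q hne t
    rcases lt_or_gt_of_ne (Fin.val_ne_of_ne hne) with h | h
    · exact N.low_mem (q.val - p.val - 1) p q (Or.inr (by omega)) t
    · exact N.low_mem (p.val - q.val - 1) p q (Or.inl (by omega)) t
  induction p using Fin.lastCases with
  | last =>
    induction q using Fin.lastCases with
    | last => exact absurd rfl hq
    | cast q =>
      rcases eq_or_ne q N.a with rfl | hqa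
      · exact hb t
      · exact N.cen_gen (r := N.a.castSucc) (Fin.castSucc_lt_last _).ne' (fun e => hqa (Fin.castSucc_injective _ e).symm)
          (Fin.castSucc_lt_last _).ne' hb (fun t => low _ _ (Ne.symm hqa) t) t
  | cast p =>
    induction q using Fin.lastCases with
    | last => exact absurd rfl hq
    | cast q =>
      exact low p q (fun e => hpq (by rw [e])) t

theorem stab_cen {h : Matrix.SpecialLinearGroup (Fin (l + 1)) F}
    (hh : h.1 *ᵥ Pi.single (Fin.last l) 1 = Pi.single (Fin.last l) 1) : h ∈ N.cen := by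
  have := N.two
  haveI : Nontrivial (Fin l) := Fin.nontrivial_iff_two_le.2 this
  exact stab_mem N.cen (fun p q hpq hq t => N.tv'_mem_cen hpq hq t) hh

/-- The vectors as elements of the group: a choice of translate. -/
noncomputable def lift (_ : Node F G l) (v : Fin (l + 1) → F) : Matrix.SpecialLinearGroup (Fin (l + 1)) F :=
  open scoped _root_.Classical in
  if h : ∃ g : Matrix.SpecialLinearGroup (Fin (l + 1)) F, g.1 *ᵥ Pi.single (Fin.last l) 1 = v then h.choose else 1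

/-- The orbit map. -/
noncomputable def ν (v : Fin (l + 1) → F) : G :=
  open scoped _root_.Classical in
  if v = 0 then 1 else N.Φ (N.lift v) * N.φ (ue 1) * (N.Φ (N.lift v))⁻¹

theorem ν_zero : N.ν 0 = 1 := by rw [ν, if_pos rfl]

theorem ν_eq (h : Matrix.SpecialLinearGroup (Fin (l + 1)) F) :
    N.ν (h.1 *ᵥ Pi.single (Fin.last l) 1) = N.Φ h * N.φ (ue 1) * (N.Φ h)⁻¹ := by
  have hne : h.1 *ᵥ Pi.single (Fin.last l) (1 : F) ≠ 0 := by
    intro h0
    have := congrArg ((h⁻¹).1 *ᵥ ·) h0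
    simp only [mulVec_mulVec, ← Matrix.SpecialLinearGroup.coe_mul, inv_mul_cancel,
      Matrix.SpecialLinearGroup.coe_one, one_mulVec, mulVec_zero] at this
    exact one_ne_zero (Pi.single_eq_zero_iff.1 this)
  have hex : ∃ g : Matrix.SpecialLinearGroup (Fin (l + 1)) F,
      g.1 *ᵥ Pi.single (Fin.last l) 1 = h.1 *ᵥ Pi.single (Fin.last l) 1 := ⟨h, rfl⟩
  rw [ν, if_neg hne, lift, dif_pos hex]
  have hs := hex.choose_spec
  set g := hex.choose
  have hst : h⁻¹ * g ∈ N.cen := N.stab_cen (by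
    rw [Matrix.SpecialLinearGroup.coe_mul, ← mulVec_mulVec, hs, mulVec_mulVec,
      ← Matrix.SpecialLinearGroup.coe_mul, inv_mul_cancel, Matrix.SpecialLinearGroup.coe_one, one_mulVec])
  have hc := N.mem_cen.1 hst 1
  have hg : g = h * (h⁻¹ * g) := by group
  rw [hg, map_mul, _root_.mul_inv_rev,
    show N.Φ h * N.Φ (h⁻¹ * g) * N.φ (ue 1) * ((N.Φ (h⁻¹ * g))⁻¹ * (N.Φ h)⁻¹) =
      N.Φ h * (N.Φ (h⁻¹ * g) * N.φ (ue 1)) * (N.Φ (h⁻¹ * g))⁻¹ * (N.Φ h)⁻¹ by group, ← hc]
  group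

theorem exists_lift (N : Node F G l) {v : Fin (l + 1) → F} (hv : v ≠ 0) :
    ∃ h : Matrix.SpecialLinearGroup (Fin (l + 1)) F, h.1 *ᵥ Pi.single (Fin.last l) 1 = v := by
  have := N.two
  exact vec_trans (by omega) _ hv

theorem ν_equiv (g : Matrix.SpecialLinearGroup (Fin (l + 1)) F) (v : Fin (l + 1) → F) :
    N.ν (g.1 *ᵥ v) = N.Φ g * N.ν v * (N.Φ g)⁻¹ := by
  rcases eq_or_ne v 0 with rfl | hv
  · rw [mulVec_zero, ν_zero, mul_one, mul_inv_cancel]
  · obtain ⟨h, rfl⟩ := N.exists_lift hv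
    rw [mulVec_mulVec, ← Matrix.SpecialLinearGroup.coe_mul, ν_eq, ν_eq, map_mul]
    group

theorem φ_zero : N.φ (ue 0) = 1 := by rw [ue_zero, map_one]

theorem ν_b (t : F) : N.ν (Pi.single (Fin.last l) t) = N.φ (ue t) := by
  rcases eq_or_ne t 0 with rfl | ht
  · rw [Pi.single_zero, ν_zero, φ_zero]
  obtain ⟨d, hd⟩ : ∃ d : SL2, d.1 = !![t⁻¹, 0; 0, t] :=
    ⟨⟨_, by rw [det_fin_two_of]; simp [ht]⟩, rfl⟩
  have e : (emb2 N.ab d).1 *ᵥ Pi.single (Fin.last l) 1 = Pi.single (Fin.last l) t := by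
    ext x
    rw [mulVec_single_one, Matrix.col_apply, Cfsg.Agent.Small.SLnSt.emb_apply, hd]
    have hab := N.ab
    by_cases hx : x = Fin.last l
    · subst hx; simp [hab.symm]
    · simp [hx, hab.symm]
  rw [← e, ν_eq, N.Φ_ab, N.φ_ue, N.φ_ue, mul_inv_eq_iff_eq_mul, ← map_mul, ← map_mul]
  refine congrArg _ (Subtype.ext ?_)
  rw [Matrix.SpecialLinearGroup.coe_mul, Matrix.SpecialLinearGroup.coe_mul, b12_val, hd,
    tv'_val (show (1 : Fin 3) ≠ 2 by decide), tv'_val (show (1 : Fin 3) ≠ 2 by decide)]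
  ext i j
  fin_cases i <;> fin_cases j <;> simp [Matrix.mul_apply, Fin.sum_univ_three]

theorem ν_a (t : F) : N.ν (Pi.single N.a.castSucc t) = N.ψ (tv' 0 2 t) := by
  obtain ⟨w, hw⟩ : ∃ w : SL2, w.1 = !![0, 1; -1, 0] := ⟨⟨_, by rw [det_fin_two_of]; simp⟩, rfl⟩
  have e : (emb2 N.ab w).1 *ᵥ Pi.single (Fin.last l) t = Pi.single N.a.castSucc t := by
    ext x
    rw [mulVec_single, Pi.smul_apply, Matrix.col_apply, Cfsg.Agent.Small.SLnSt.emb_apply, hw]
    have hab := N.ab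
    by_cases hx : x = N.a.castSucc
    · subst hx; simp [hab, hab.symm]
    · by_cases hx2 : x = Fin.last l
      · subst hx2; simp [hx]
      · simp [hx, hx2]
  rw [← e, ν_equiv, ν_b, N.Φ_ab, N.φ_ue, mul_inv_eq_iff_eq_mul, ← map_mul, ← map_mul]
  refine congrArg _ (Subtype.ext ?_)
  rw [Matrix.SpecialLinearGroup.coe_mul, Matrix.SpecialLinearGroup.coe_mul, b12_val, hw,
    tv'_val (show (1 : Fin 3) ≠ 2 by decide), tv'_val (show (0 : Fin 3) ≠ 2 by decide)]
  ext i j
  fin_cases i <;> fin_cases j <;> simp [Matrix.mul_apply, Fin.sum_univ_three]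

theorem ν_add (v w : Fin (l + 1) → F) : N.ν (v + w) = N.ν v * N.ν w := by
  rcases eq_or_ne v 0 with rfl | hv
  · rw [zero_add, ν_zero, one_mul]
  by_cases hli : LinearIndependent F ![w, v]
  · obtain ⟨h, ha, hb⟩ := pair_trans (by have := N.two; omega) N.ab hli
    rw [← ha, ← hb, ← mulVec_add, ν_equiv, ν_equiv, ν_equiv, N.ν_a, N.ν_b,
      show (N.Φ h * N.φ (ue 1) * (N.Φ h)⁻¹) * (N.Φ h * N.ψ (tv' 0 2 1) * (N.Φ h)⁻¹) =
        N.Φ h * (N.φ (ue 1) * N.ψ (tv' 0 2 1)) * (N.Φ h)⁻¹ by group]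
    congr 2
    have e : (emb2 N.ab (ue (1 : F))).1 *ᵥ Pi.single (Fin.last l) (1 : F) =
        Pi.single N.b (1 : F) + Pi.single N.a.castSucc (1 : F) := by
      rw [emb2_ue N.ab, tv'_mulVec N.ab, Pi.single_eq_same, mul_one]
    rw [← e, ν_eq, N.Φ_ab, N.φ_ue, show b12 (ue (1 : F)) = tv' (0 : Fin 3) 1 1 from b12_tv 1, ← map_mul,
      mul_inv_eq_iff_eq_mul, ← map_mul, ← map_mul]
    congr 1
    rw [tv'_comm3 (show (0 : Fin 3) ≠ 1 by decide) (show (1 : Fin 3) ≠ 2 by decide) (show (0 : Fin 3) ≠ 2 by decide),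
      mul_one, (tv'_comm (show (0 : Fin 3) ≠ 2 by decide) (show (1 : Fin 3) ≠ 2 by decide)
        (show (0 : Fin 3) ≠ 2 by decide) (show (2 : Fin 3) ≠ 1 by decide) (1 : F) 1).eq]
  · obtain ⟨c, rfl⟩ : ∃ c : F, c • v = w := by
      rw [LinearIndependent.pair_iff] at hli
      push Not at hli
      obtain ⟨s, t, hst, hne⟩ := hli
      have hs : s ≠ 0 := fun h => by
        rw [h, zero_smul, zero_add] at hst
        exact hne h ((smul_eq_zero.1 hst).resolve_right hv)
      refine ⟨-(s⁻¹ * t), ?_⟩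
      have h' := congrArg (fun x => s⁻¹ • x) hst
      simp only [smul_add, smul_smul, inv_mul_cancel₀ hs, one_smul, smul_zero] at h'
      rw [neg_smul, eq_neg_of_add_eq_zero_left h']
    obtain ⟨h, rfl⟩ := N.exists_lift hv
    rw [← mulVec_smul, ← mulVec_add, ← Pi.single_smul, ← Pi.single_add, ν_equiv, ν_equiv, ν_equiv, ν_b, ν_b, ν_b,
      smul_eq_mul, mul_one, ← ue_add, map_mul]
    group

theorem ν_comm (v w : Fin (l + 1) → F) : Commute (N.ν v) (N.ν w) := by
  show N.ν v * N.ν w = N.ν w * N.ν v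
  rw [← ν_add, ← ν_add, add_comm]

end Node

end Cfsg.Agent.Lie.CTA
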