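import Cfsg.Agent.Lib.Lie.CTA.Frame

/-!
Rigidity of a pair of subgroups `SL₂(q)`, `q` odd, generating `SL₃(q)` or `PSL₃(q)` with commuting central
involutions: any parametrisation of the first aligned with the involution of the second extends to the pair.
-/

set_option autoImplicit false
set_option linter.unusedSectionVars false
set_option linter.style.haveILetI false

namespace Cfsg.Agent.Lie.CTA

open Matrix

variable {F : Type*} [Field F] [Fintype F] {G : Type*} [Group G]

local notation "SL2" => Matrix.SpecialLinearGroup (Fin 2) F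
local notation "SL3" => Matrix.SpecialLinearGroup (Fin 3) F

/-- A parametrisation of a subgroup `A` with central involution `za`, aligned with the involution `zb`. -/
structure Good (A : Subgroup G) (za zb : G) (φ : Matrix.SpecialLinearGroup (Fin 2) F →* G) : Prop where
  inj : Function.Injective φ
  range : φ.range = A
  neg : φ (-1) = za
  act : ∀ g, zb * φ g * zb⁻¹ = φ (sgn2 g)

theorem center_cube {c : SL3} (hc : c ∈ Subgroup.center SL3) : c ^ 3 = 1 := by
  obtain ⟨r, hr, rfl'⟩ := Matrix.SpecialLinearGroup.mem_center_iff.1 hc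
  refine Subtype.ext ?_
  rw [Matrix.SpecialLinearGroup.coe_pow, ← rfl', ← map_pow, show r ^ 3 = 1 by simpa using hr, map_one,
    Matrix.SpecialLinearGroup.coe_one]

theorem center_sq_one {c : SL3} (hc : c ∈ Subgroup.center SL3) (h2 : c * c = 1) : c = 1 := by
  have h := center_cube hc
  rwa [pow_succ, pow_two, h2, one_mul] at h

theorem neg_one_comm (g : SL2) : (-1 : SL2) * g = g * -1 := by simp

/-- The central involution of a parametrised `SL₂`. -/
theorem neg_eq {A : Subgroup G} (φ : SL2 →* G) (hinj : Function.Injective φ) (hr : φ.range = A) {z : G}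
    (hz : z ∈ A) (hc : z ∈ Subgroup.centralizer (A : Set G)) (h1 : z ≠ 1) (h2 : z * z = 1) : φ (-1) = z := by
  obtain ⟨x, rfl⟩ := (show z ∈ φ.range by rw [hr]; exact hz)
  refine congrArg φ (eq_neg_one (fun g => hinj ?_) (fun h => h1 (by rw [h, map_one])) (hinj (by
    rw [map_mul, h2, map_one]))).symm
  rw [map_mul, map_mul]
  exact Subgroup.mem_centralizer_iff.1 hc _ (by rw [SetLike.mem_coe, ← hr]; exact ⟨g, rfl⟩)

section Pair

variable (hodd : Odd (Fintype.card F))

include hodd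

/-- Elements of order dividing `p` commuting with `b12 (-1)` lie in the upper block. -/
theorem mem_b12 {p : ℕ} [Fact p.Prime] [CharP F p] {a : SL3} (hc : a * b12 (-1) = b12 (-1) * a)
    (hp : a ^ p = 1) : a ∈ (b12 : SL2 →* SL3).range := by
  have two := two_ne hodd
  have h := congrArg Subtype.val hc
  rw [Matrix.SpecialLinearGroup.coe_mul, Matrix.SpecialLinearGroup.coe_mul, b12_val] at h
  have e02 : a.1 0 2 = 0 := by
    have := congrFun (congrFun h 0) 2
    simp [Matrix.mul_apply, Fin.sum_univ_three] at this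
    exact (mul_eq_zero.1 (show (2 : F) * a.1 0 2 = 0 by linear_combination this)).resolve_left two
  have e12 : a.1 1 2 = 0 := by
    have := congrFun (congrFun h 1) 2
    simp [Matrix.mul_apply, Fin.sum_univ_three] at this
    exact (mul_eq_zero.1 (show (2 : F) * a.1 1 2 = 0 by linear_combination this)).resolve_left two
  have e20 : a.1 2 0 = 0 := by
    have := congrFun (congrFun h 2) 0
    simp [Matrix.mul_apply, Fin.sum_univ_three] at this
    exact (mul_eq_zero.1 (show (2 : F) * a.1 2 0 = 0 by linear_combination -this)).resolve_left two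
  have e21 : a.1 2 1 = 0 := by
    have := congrFun (congrFun h 2) 1
    simp [Matrix.mul_apply, Fin.sum_univ_three] at this
    exact (mul_eq_zero.1 (show (2 : F) * a.1 2 1 = 0 by linear_combination -this)).resolve_left two
  have hk : ∀ k : ℕ, (a ^ k).1 2 2 = a.1 2 2 ^ k ∧ (a ^ k).1 2 0 = 0 ∧ (a ^ k).1 2 1 = 0 := by
    intro k
    induction k with
    | zero => simp
    | succ k ih =>
      obtain ⟨i1, i2, i3⟩ := ih
      rw [pow_succ, pow_succ, Matrix.SpecialLinearGroup.coe_mul]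
      rw [Matrix.SpecialLinearGroup.coe_pow] at i1 i2 i3
      refine ⟨?_, ?_, ?_⟩ <;> simp [Matrix.mul_apply, Fin.sum_univ_three, i1, i2, i3, e20, e21]
  have e22 : a.1 2 2 = 1 := by
    have h22 : a.1 2 2 ^ p = 1 := by rw [← (hk p).1, hp]; simp
    exact sub_eq_zero.1 (eq_zero_of_pow_eq_zero (show (a.1 2 2 - 1) ^ p = 0 by rw [sub_pow_char, h22, one_pow, sub_self]))
  have hd := a.2
  rw [det_fin_three, e02, e12, e20, e21, e22] at hd
  obtain ⟨s, hs⟩ : ∃ s : SL2, s.1 = !![a.1 0 0, a.1 0 1; a.1 1 0, a.1 1 1] :=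
    ⟨⟨_, by rw [det_fin_two_of]; linear_combination hd⟩, rfl⟩
  refine ⟨s, Subtype.ext ?_⟩
  rw [b12_val, hs]
  ext i j; fin_cases i <;> fin_cases j <;> simp [e02, e12, e20, e21, e22]

/-- Elements of order dividing `p` commuting with `b23 (-1)` lie in the lower block. -/
theorem mem_b23 {p : ℕ} [Fact p.Prime] [CharP F p] {a : SL3} (hc : a * b23 (-1) = b23 (-1) * a)
    (hp : a ^ p = 1) : a ∈ (b23 : SL2 →* SL3).range := by
  have two := two_ne hodd
  have h := congrArg Subtype.val hc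
  rw [Matrix.SpecialLinearGroup.coe_mul, Matrix.SpecialLinearGroup.coe_mul, b23_val] at h
  have e01 : a.1 0 1 = 0 := by
    have := congrFun (congrFun h 0) 1
    simp [Matrix.mul_apply, Fin.sum_univ_three] at this
    exact (mul_eq_zero.1 (show (2 : F) * a.1 0 1 = 0 by linear_combination -this)).resolve_left two
  have e02 : a.1 0 2 = 0 := by
    have := congrFun (congrFun h 0) 2
    simp [Matrix.mul_apply, Fin.sum_univ_three] at this
    exact (mul_eq_zero.1 (show (2 : F) * a.1 0 2 = 0 by linear_combination -this)).resolve_left two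
  have e10 : a.1 1 0 = 0 := by
    have := congrFun (congrFun h 1) 0
    simp [Matrix.mul_apply, Fin.sum_univ_three] at this
    exact (mul_eq_zero.1 (show (2 : F) * a.1 1 0 = 0 by linear_combination this)).resolve_left two
  have e20 : a.1 2 0 = 0 := by
    have := congrFun (congrFun h 2) 0
    simp [Matrix.mul_apply, Fin.sum_univ_three] at this
    exact (mul_eq_zero.1 (show (2 : F) * a.1 2 0 = 0 by linear_combination this)).resolve_left two
  have hk : ∀ k : ℕ, (a ^ k).1 0 0 = a.1 0 0 ^ k ∧ (a ^ k).1 0 1 = 0 ∧ (a ^ k).1 0 2 = 0 := by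
    intro k
    induction k with
    | zero => simp
    | succ k ih =>
      obtain ⟨i1, i2, i3⟩ := ih
      rw [pow_succ, pow_succ, Matrix.SpecialLinearGroup.coe_mul]
      rw [Matrix.SpecialLinearGroup.coe_pow] at i1 i2 i3
      refine ⟨?_, ?_, ?_⟩ <;> simp [Matrix.mul_apply, Fin.sum_univ_three, i1, i2, i3, e01, e02]
  have e00 : a.1 0 0 = 1 := by
    have h00 : a.1 0 0 ^ p = 1 := by rw [← (hk p).1, hp]; simp
    exact sub_eq_zero.1 (eq_zero_of_pow_eq_zero (show (a.1 0 0 - 1) ^ p = 0 by rw [sub_pow_char, h00, one_pow, sub_self]))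
  have hd := a.2
  rw [det_fin_three, e01, e02, e10, e20, e00] at hd
  obtain ⟨s, hs⟩ : ∃ s : SL2, s.1 = !![a.1 1 1, a.1 1 2; a.1 2 1, a.1 2 2] :=
    ⟨⟨_, by rw [det_fin_two_of]; linear_combination hd⟩, rfl⟩
  refine ⟨s, Subtype.ext ?_⟩
  rw [b23_val, hs]
  ext i j; fin_cases i <;> fin_cases j <;> simp [e01, e02, e10, e20, e00]

/-- The standard position of a generating pair. -/
theorem standard {A B : Subgroup G} (eA : SL2 ≃* A) (eB : SL2 ≃* B) {za zb : G}
    (hza : za ∈ A ∧ za ∈ Subgroup.centralizer (A : Set G) ∧ za ≠ 1 ∧ za * za = 1)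
    (hzb : zb ∈ B ∧ zb ∈ Subgroup.centralizer (B : Set G) ∧ zb ≠ 1 ∧ zb * zb = 1)
    (hc : za * zb = zb * za)
    (hiso : Nonempty (↥(A ⊔ B) ≃* SL3) ∨ Nonempty (↥(A ⊔ B) ≃* Matrix.ProjectiveSpecialLinearGroup (Fin 3) F)) :
    ∃ ψ : SL3 →* G, Good A za zb (ψ.comp b12) ∧ Good B zb za (ψ.comp b23) := by
  obtain ⟨π, hπr, hπk⟩ : ∃ π : SL3 →* G, π.range = A ⊔ B ∧ π.ker ≤ Subgroup.center SL3 := by
    rcases hiso with h | h <;> obtain ⟨e⟩ := h
    · refine ⟨(A ⊔ B).subtype.comp e.symm.toMonoidHom, ?_, ?_⟩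
      · rw [MonoidHom.range_comp, MonoidHom.range_eq_top.2 e.symm.surjective, ← MonoidHom.range_eq_map,
          Subgroup.range_subtype]
      · intro x hx
        rw [MonoidHom.mem_ker, MonoidHom.comp_apply] at hx
        have : e.symm x = 1 := Subtype.ext hx
        rw [MulEquiv.map_eq_one_iff] at this
        subst this
        exact one_mem _
    · refine ⟨(A ⊔ B).subtype.comp (e.symm.toMonoidHom.comp (QuotientGroup.mk' (Subgroup.center SL3))), ?_, ?_⟩
      · rw [MonoidHom.range_comp, MonoidHom.range_comp, MonoidHom.range_eq_top.2 (QuotientGroup.mk'_surjective _),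
          ← MonoidHom.range_eq_map, MonoidHom.range_eq_top.2 e.symm.surjective, ← MonoidHom.range_eq_map,
          Subgroup.range_subtype]
      · intro x hx
        rw [MonoidHom.mem_ker, MonoidHom.comp_apply, MonoidHom.comp_apply] at hx
        have h' : e.symm (QuotientGroup.mk' (Subgroup.center SL3) x) = 1 := Subtype.ext hx
        rw [MulEquiv.map_eq_one_iff] at h'
        exact (QuotientGroup.eq_one_iff x).1 h'
  have lift : ∀ z ∈ A ⊔ B, z * z = 1 → ∃ Z : SL3, Z * Z = 1 ∧ π Z = z := by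
    intro z hz h2
    obtain ⟨x, hx⟩ := (show z ∈ π.range by rw [hπr]; exact hz)
    have hk : x * x ∈ π.ker := by rw [MonoidHom.mem_ker, map_mul, hx, h2]
    refine ⟨x ^ 3, ?_, ?_⟩
    · rw [← (Commute.refl x).mul_pow, center_cube (hπk hk)]
    · rw [map_pow, hx, pow_succ, pow_two, h2, one_mul]
  have pcomm : ∀ (x Z : SL3), Z * Z = 1 → π x * π Z = π Z * π x → x * Z = Z * x := by
    intro x Z h2 h
    have hk : x * Z * x⁻¹ * Z⁻¹ ∈ π.ker := by
      rw [MonoidHom.mem_ker, map_mul, map_mul, map_mul, map_inv, map_inv, h, mul_inv_cancel_right, mul_inv_cancel]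
    have hz := hπk hk
    set c := x * Z * x⁻¹ * Z⁻¹ with hcdef
    have e1 : x * Z * x⁻¹ = c * Z := by rw [hcdef, inv_mul_cancel_right]
    have h1 : (x * Z * x⁻¹) * (x * Z * x⁻¹) = 1 := by
      rw [show (x * Z * x⁻¹) * (x * Z * x⁻¹) = x * (Z * Z) * x⁻¹ by group, h2, mul_one, mul_inv_cancel]
    rw [e1] at h1
    have hcc : c * c = 1 := by
      have hcz : Z * c = c * Z := Subgroup.mem_center_iff.1 hz Z
      calc c * c = c * c * (Z * Z) := by rw [h2, mul_one]
        _ = c * (c * Z) * Z := by group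
        _ = c * (Z * c) * Z := by rw [hcz]
        _ = (c * Z) * (c * Z) := by group
        _ = 1 := h1
    rw [center_sq_one hz hcc, one_mul] at e1
    exact mul_inv_eq_iff_eq_mul.1 e1
  obtain ⟨Za, Za2, hZa⟩ := lift za (Subgroup.mem_sup_left hza.1) hza.2.2.2
  obtain ⟨Zb, Zb2, hZb⟩ := lift zb (Subgroup.mem_sup_right hzb.1) hzb.2.2.2
  have Za1 : Za ≠ 1 := fun h => hza.2.2.1 (by rw [← hZa, h, map_one])
  have Zb1 : Zb ≠ 1 := fun h => hzb.2.2.1 (by rw [← hZb, h, map_one])
  have Zab : Za * Zb = Zb * Za := pcomm Za Zb Zb2 (by rw [hZa, hZb, hc])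
  have Zne : Za ≠ Zb := by
    intro h
    refine Za1 (center_sq_one (Subgroup.mem_center_iff.2 fun x => ?_) Za2)
    refine pcomm x Za Za2 ?_
    have hzz : za = zb := by rw [← hZa, ← hZb, h]
    have : π x ∈ Subgroup.centralizer ({za} : Set G) := by
      have hle : A ⊔ B ≤ Subgroup.centralizer ({za} : Set G) := by
        refine sup_le (fun y hy => ?_) (fun y hy => ?_) <;> rw [Subgroup.mem_centralizer_singleton_iff]
        · exact Subgroup.mem_centralizer_iff.1 hza.2.1 y hy
        · rw [hzz]; exact Subgroup.mem_centralizer_iff.1 hzb.2.1 y hy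
      exact hle (by rw [← hπr]; exact ⟨x, rfl⟩)
    rw [hZa]
    exact Subgroup.mem_centralizer_singleton_iff.1 this
  obtain ⟨g, gA, gB⟩ := exists_frame hodd Za2 Zb2 Za1 Zb1 Zab Zne
  obtain ⟨ψ, hψ⟩ : ∃ ψ : SL3 →* G, ψ = π.comp (MulAut.conj g).toMonoidHom := ⟨_, rfl⟩
  have hψv : ∀ x, ψ x = π (g * x * g⁻¹) := fun x => by rw [hψ]; rfl
  have ψa : ψ (b12 (-1)) = za := by rw [hψv, ← gA, mul_inv_cancel_right, hZa]
  have ψb : ψ (b23 (-1)) = zb := by rw [hψv, ← gB, mul_inv_cancel_right, hZb]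
  have ψr : ψ.range = A ⊔ B := by
    rw [hψ, MonoidHom.range_comp, MonoidHom.range_eq_top.2 (MulAut.conj g).surjective, ← MonoidHom.range_eq_map, hπr]
  have ψk : ψ.ker ≤ Subgroup.center SL3 := by
    intro x hx
    rw [MonoidHom.mem_ker, hψv] at hx
    have h := hπk hx
    have : x = g⁻¹ * (g * x * g⁻¹) * g := by group
    rw [this, Subgroup.mem_center_iff.1 h g⁻¹, inv_mul_cancel_right]
    exact h
  obtain ⟨p, hp⟩ := CharP.exists F
  haveI := Fact.mk (CharP.char_is_prime F p)
  have cen3 : p = 3 → ∀ c ∈ Subgroup.center SL3, c = 1 := by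
    intro h3 c hc'
    obtain ⟨r, hr, hrc⟩ := Matrix.SpecialLinearGroup.mem_center_iff.1 hc'
    have hr3 : r ^ 3 = 1 := by simpa using hr
    subst h3
    have : r = 1 := sub_eq_zero.1 (eq_zero_of_pow_eq_zero (show (r - 1) ^ 3 = 0 by rw [sub_pow_char, hr3, one_pow, sub_self]))
    exact Subtype.ext (by rw [← hrc, this, map_one]; rfl)
  have key : ∀ (C : Subgroup G) (eC : SL2 ≃* C), C ≤ A ⊔ B → ∀ (bl : SL2 →* SL3) (zc : G),
      zc * zc = 1 → zc ∈ Subgroup.centralizer (C : Set G) → ψ (bl (-1)) = zc →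
      (∀ a : SL3, a * bl (-1) = bl (-1) * a → a ^ p = 1 → a ∈ bl.range) →
      (ψ.comp bl).range = C ∧ Function.Injective (ψ.comp bl) := by
    intro C eC hC bl zc hz2 hzc hbl hmem
    have hle : C ≤ (ψ.comp bl).range := by
      have hgen : ∀ x : SL2, ((eC x : C) : G) ∈ (ψ.comp bl).range := by
        have hunip : ∀ x : SL2, x ^ p = 1 → ((eC x : C) : G) ∈ (ψ.comp bl).range := by
          intro x hx
          obtain ⟨a, ha⟩ := (show ((eC x : C) : G) ∈ ψ.range by rw [ψr]; exact hC (eC x).2)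
          have hxp : ((eC x : C) : G) ^ p = 1 := by rw [← Subgroup.coe_pow, ← map_pow, hx, map_one, Subgroup.coe_one]
          have hck : a ^ p ∈ ψ.ker := by rw [MonoidHom.mem_ker, map_pow, ha, hxp]
          obtain ⟨k, hk1, hk2⟩ : ∃ k : ℕ, ((eC x : C) : G) ^ k = ((eC x : C) : G) ∧ (a ^ k) ^ p = 1 := by
            by_cases h3 : p = 3
            · exact ⟨1, pow_one _, by rw [pow_one]; exact cen3 h3 _ (ψk hck)⟩
            · have hcop : Nat.Coprime 3 p := by
                rw [Nat.coprime_primes Nat.prime_three (Fact.out)]; exact fun h => h3 h.symm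
              obtain ⟨m, -, hm⟩ := Nat.exists_mul_mod_eq_one_of_coprime hcop (Fact.out : p.Prime).one_lt
              refine ⟨3 * m, ?_, ?_⟩
              · rw [← Nat.mod_add_div (3 * m) p, hm, pow_add, pow_one, pow_mul, hxp, one_pow, mul_one]
              · rw [← pow_mul, mul_comm, pow_mul, pow_mul, center_cube (ψk hck), one_pow]
          have hψk' : ψ (a ^ k) = ((eC x : C) : G) := by rw [map_pow, ha, hk1]
          have hbsq : bl (-1) * bl (-1) = 1 := by rw [← map_mul, neg_mul_self, map_one]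
          have hcomm : ψ (a ^ k) * zc = zc * ψ (a ^ k) := by
            rw [hψk']; exact Subgroup.mem_centralizer_iff.1 hzc _ (eC x).2
          have hpc : a ^ k * bl (-1) = bl (-1) * a ^ k := by
            have h := pcomm (g * a ^ k * g⁻¹) (g * bl (-1) * g⁻¹) (by
              rw [show g * bl (-1) * g⁻¹ * (g * bl (-1) * g⁻¹) = g * (bl (-1) * bl (-1)) * g⁻¹ by group, hbsq,
                mul_one, mul_inv_cancel]) (by rw [← hψv, ← hψv, hbl]; exact hcomm)
            calc a ^ k * bl (-1) = g⁻¹ * ((g * a ^ k * g⁻¹) * (g * bl (-1) * g⁻¹)) * g := by group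
              _ = g⁻¹ * ((g * bl (-1) * g⁻¹) * (g * a ^ k * g⁻¹)) * g := by rw [h]
              _ = bl (-1) * a ^ k := by group
          obtain ⟨s, hs⟩ := hmem _ hpc hk2
          exact ⟨s, by rw [MonoidHom.comp_apply, hs, hψk']⟩
        refine fun x => sl2_induction (P := fun x => ((eC x : C) : G) ∈ (ψ.comp bl).range)
          (fun t => hunip _ (ue_pow_char t)) (fun t => hunip _ (le'_pow_char t)) ?_ ?_ ?_ x
        · rw [map_one]; exact one_mem _
        · intro u v hu hv; rw [map_mul, Subgroup.coe_mul]; exact mul_mem hu hv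
        · intro u hu; rw [map_inv, Subgroup.coe_inv]; exact inv_mem hu
      intro y hy
      have h := hgen (eC.symm ⟨y, hy⟩)
      rwa [eC.apply_symm_apply] at h
    haveI : Finite ↥(ψ.comp bl).range := Finite.of_surjective _ (ψ.comp bl).rangeRestrict_surjective
    have hcard : Nat.card ↥(ψ.comp bl).range ≤ Nat.card SL2 :=
      Nat.card_le_card_of_surjective _ (ψ.comp bl).rangeRestrict_surjective
    have hCc : Nat.card C = Nat.card SL2 := Nat.card_congr eC.symm.toEquiv
    have heq : (ψ.comp bl).range = C := (Subgroup.eq_of_le_of_card_ge hle (by omega)).symm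
    refine ⟨heq, fun u v huv => ?_⟩
    have hbij : Function.Bijective (ψ.comp bl).rangeRestrict := by
      refine (Nat.bijective_iff_surjective_and_card _).2 ⟨(ψ.comp bl).rangeRestrict_surjective, ?_⟩
      rw [heq, hCc]
    exact hbij.1 (Subtype.ext huv)
  obtain ⟨rA, iA⟩ := key A eA le_sup_left b12 za hza.2.2.2 hza.2.1 ψa (fun a => mem_b12 hodd)
  obtain ⟨rB, iB⟩ := key B eB le_sup_right b23 zb hzb.2.2.2 hzb.2.1 ψb (fun a => mem_b23 hodd)
  have invb : zb⁻¹ = zb := inv_eq_of_mul_eq_one_right hzb.2.2.2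
  have inva : za⁻¹ = za := inv_eq_of_mul_eq_one_right hza.2.2.2
  refine ⟨ψ, ⟨iA, rA, ψa, fun x => ?_⟩, ⟨iB, rB, ψb, fun x => ?_⟩⟩
  · rw [invb, ← ψb, MonoidHom.comp_apply, MonoidHom.comp_apply, ← map_mul, ← map_mul, neg_b12]
  · rw [inva, ← ψa, MonoidHom.comp_apply, MonoidHom.comp_apply, ← map_mul, ← map_mul, neg_b23]

/-- A parametrisation aligned with the other involution extends to the pair. -/
theorem edge {A B : Subgroup G} (eA : SL2 ≃* A) (eB : SL2 ≃* B) {za zb : G}
    (hza : za ∈ A ∧ za ∈ Subgroup.centralizer (A : Set G) ∧ za ≠ 1 ∧ za * za = 1)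
    (hzb : zb ∈ B ∧ zb ∈ Subgroup.centralizer (B : Set G) ∧ zb ≠ 1 ∧ zb * zb = 1)
    (hc : za * zb = zb * za)
    (hiso : Nonempty (↥(A ⊔ B) ≃* SL3) ∨ Nonempty (↥(A ⊔ B) ≃* Matrix.ProjectiveSpecialLinearGroup (Fin 3) F))
    {φ : SL2 →* G} (hφ : Good A za zb φ) :
    ∃ ψ : SL3 →* G, ψ.comp b12 = φ ∧ Good B zb za (ψ.comp b23) := by
  obtain ⟨ψ, hA, hB⟩ := standard hodd eA eB hza hzb hc hiso
  -- the transition map
  have hex : ∀ x, ∃ y, ψ (b12 y) = φ x := fun x => by
    have : φ x ∈ (ψ.comp b12).range := by rw [hA.range, ← hφ.range]; exact ⟨x, rfl⟩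
    exact this
  choose α0 hα0 using hex
  let α : SL2 →* SL2 :=
    { toFun := α0
      map_one' := hA.inj (show ψ (b12 _) = ψ (b12 1) by rw [hα0, map_one, map_one, map_one])
      map_mul' := fun x y => hA.inj (show ψ (b12 _) = ψ (b12 (_ * _)) by
        rw [hα0, map_mul, map_mul b12, map_mul ψ, hα0, hα0]) }
  have hα : ∀ x, ψ (b12 (α x)) = φ x := hα0
  have hαi : Function.Injective α := fun x y h => hφ.inj (by rw [← hα, h, hα])
  have hαs : ∀ x, α (sgn2 x) = sgn2 (α x) := fun x => hA.inj (by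
    show ψ (b12 _) = ψ (b12 _)
    rw [hα, ← hφ.act, ← hα]
    exact hA.act (α x))
  -- a preliminary flip
  obtain ⟨τ, hτb, hτ2, hτ3, hU⟩ : ∃ τ : SL3 →* SL3, Function.Bijective τ ∧
      (∀ x, ∃ y, τ (b12 x) = b12 y) ∧ (∀ x, ∃ y, τ (b23 x) = b23 y) ∧
      ∃ β : SL2 →* SL2, Function.Injective β ∧ (∀ x, β (sgn2 x) = sgn2 (β x)) ∧
        (∀ x, τ (b12 (β x)) = b12 (α x)) ∧ ∀ t, ∃ u, β (ue t) = ue u := by
    rcases ue_image hodd α hαi hαs with h | h
    · exact ⟨MonoidHom.id _, Function.bijective_id, fun x => ⟨x, rfl⟩, fun x => ⟨x, rfl⟩, α, hαi, hαs,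
        fun x => rfl, h⟩
    · refine ⟨theta, theta_bij, fun x => ⟨_, theta_b12 x⟩, fun x => ⟨_, theta_b23 x⟩, theta.comp α,
        theta_bij.1.comp hαi, fun x => ?_, fun x => ?_, fun t => ?_⟩
      · rw [MonoidHom.comp_apply, MonoidHom.comp_apply, hαs]
        generalize α x = y
        revert y
        refine fun y => DFunLike.congr_fun (sl2_hom_ext (f := theta.comp sgn2) (g := sgn2.comp theta) ?_ ?_) y <;>
          intro t <;> simp [theta_ue, theta_le', sgn2_ue, sgn2_le']
      · rw [theta_b12, MonoidHom.comp_apply, theta_theta]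
      · obtain ⟨u, hu⟩ := h t
        exact ⟨-u, by rw [MonoidHom.comp_apply, hu, theta_le']⟩
  obtain ⟨β, hβi, hβs, hβτ, hβU⟩ := hU
  obtain ⟨σ, c, hc0, hσu, hσl⟩ := exists_field hodd β hβi hβs hβU
  -- the automorphism
  let d : Matrix (Fin 3) (Fin 3) F := Matrix.diagonal ![c, 1, 1]
  let d' : Matrix (Fin 3) (Fin 3) F := Matrix.diagonal ![c⁻¹, 1, 1]
  have hdd : d' * d = 1 := by
    rw [diagonal_mul_diagonal, ← diagonal_one]; congr 1; funext i; fin_cases i <;> simp [hc0]
  have hdd' : d * d' = 1 := by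
    rw [diagonal_mul_diagonal, ← diagonal_one]; congr 1; funext i; fin_cases i <;> simp [hc0]
  let Ψ : SL3 →* SL3 :=
    { toFun := fun x => ⟨d * (Matrix.SpecialLinearGroup.map σ x).1 * d', by
        rw [det_mul, det_mul, (Matrix.SpecialLinearGroup.map σ x).2, mul_one, ← det_mul, hdd', det_one]⟩
      map_one' := Subtype.ext (by simp [hdd'])
      map_mul' := fun x y => Subtype.ext (by
        show d * (Matrix.SpecialLinearGroup.map σ (x * y)).1 * d' = _ * d' * (_ * d')
        rw [map_mul, Matrix.SpecialLinearGroup.coe_mul]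
        simp only [Matrix.mul_assoc]
        rw [← Matrix.mul_assoc d', hdd, Matrix.one_mul]) }
  have Ψv : ∀ x, (Ψ x).1 = d * x.1.map σ * d' := fun x => rfl
  have Ψ12 : Ψ.comp b12 = b12.comp β := by
    refine sl2_hom_ext (fun t => ?_) (fun t => ?_) <;> refine Subtype.ext ?_ <;>
      rw [MonoidHom.comp_apply, MonoidHom.comp_apply, Ψv]
    · rw [hσu, b12_val, b12_val]
      ext i j; fin_cases i <;> fin_cases j <;> simp [d, d', ue_val, Matrix.mul_diagonal, Matrix.diagonal_mul, hc0]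
    · rw [hσl, b12_val, b12_val]
      ext i j; fin_cases i <;> fin_cases j <;>
        simp [d, d', le'_val, Matrix.mul_diagonal, Matrix.diagonal_mul, hc0] <;> ring
  have Ψi : Function.Injective Ψ := fun x y h => by
    have h' : d * x.1.map σ * d' = d * y.1.map σ * d' := congrArg Subtype.val h
    have h'' := congrArg (fun M => d' * M * d) h'
    simp only [← Matrix.mul_assoc, hdd, Matrix.one_mul] at h''
    simp only [Matrix.mul_assoc, hdd, Matrix.mul_one] at h''
    exact Subtype.ext (Matrix.map_injective σ.injective h'')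
  have Ψ23 : ∀ x, ∃ y, Ψ (b23 x) = b23 y := fun x => ⟨Matrix.SpecialLinearGroup.map σ x, Subtype.ext (by
    rw [Ψv, b23_val, b23_val]
    ext i j; fin_cases i <;> fin_cases j <;> simp [d, d', Matrix.mul_diagonal, Matrix.diagonal_mul, hc0])⟩
  obtain ⟨ψ', hψ'⟩ : ∃ ψ' : SL3 →* G, ψ' = ψ.comp (τ.comp Ψ) := ⟨_, rfl⟩
  have h12 : ψ'.comp b12 = φ := by
    refine MonoidHom.ext fun x => ?_
    rw [hψ', MonoidHom.comp_apply, MonoidHom.comp_apply, MonoidHom.comp_apply,
      ← MonoidHom.comp_apply Ψ b12, Ψ12, MonoidHom.comp_apply, hβτ, hα]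
  refine ⟨ψ', h12, ?_⟩
  have hex' : ∀ x, ∃ y, τ (Ψ (b23 x)) = b23 y := fun x => by
    obtain ⟨y, hy⟩ := Ψ23 x
    rw [hy]; exact hτ3 y
  choose γ hγ using hex'
  have γi : Function.Injective γ := fun x y h =>
    b23_inj (Ψi (hτb.1 (by rw [hγ, hγ, h])))
  have γs : Function.Surjective γ := Finite.injective_iff_surjective.1 γi
  have v23 : ∀ x, ψ' (b23 x) = ψ (b23 (γ x)) := fun x => by
    rw [hψ', MonoidHom.comp_apply, MonoidHom.comp_apply, hγ]
  have hinj : Function.Injective (ψ'.comp b23) := fun x y h =>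
    γi (hB.inj (show ψ (b23 _) = ψ (b23 _) by rw [← v23, ← v23]; exact h))
  have hrange : (ψ'.comp b23).range = B := by
    rw [← hB.range]
    ext y
    constructor
    · rintro ⟨x, rfl⟩; exact ⟨γ x, (v23 x).symm⟩
    · rintro ⟨x, rfl⟩
      obtain ⟨w, rfl⟩ := γs x
      exact ⟨w, v23 w⟩
  refine ⟨hinj, hrange, neg_eq _ hinj hrange hzb.1 hzb.2.1 hzb.2.2.1 hzb.2.2.2, fun x => ?_⟩
  have inva : za⁻¹ = za := inv_eq_of_mul_eq_one_right hza.2.2.2
  have ha : ψ' (b12 (-1)) = za := by rw [← MonoidHom.comp_apply, h12, hφ.neg]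
  rw [inva, ← ha, MonoidHom.comp_apply, MonoidHom.comp_apply, ← map_mul, ← map_mul, neg_b23]

end Pair

/-- The flip of the two blocks. -/
theorem symm_edge {ψ : SL3 →* G} {φ φ' : SL2 →* G} (h1 : ψ.comp b12 = φ) (h2 : ψ.comp b23 = φ') :
    ∃ ψ' : SL3 →* G, ψ'.comp b12 = φ'.comp sgn2 ∧ ψ'.comp b23 = φ.comp sgn2 := by
  let J : SL3 := ⟨!![0, 0, -1; 0, -1, 0; -1, 0, 0], by simp [det_fin_three]⟩
  refine ⟨ψ.comp ((MulAut.conj J).toMonoidHom.comp theta), sl2_hom_ext (fun t => ?_) (fun t => ?_),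
    sl2_hom_ext (fun t => ?_) (fun t => ?_)⟩ <;>
  (simp only [MonoidHom.comp_apply, MulEquiv.coe_toMonoidHom, MulAut.conj_apply, ← h1, ← h2, theta_b12,
      theta_b23, theta_ue, theta_le', sgn2_ue, sgn2_le']
   congr 1
   rw [mul_inv_eq_iff_eq_mul]
   refine Subtype.ext ?_
   rw [Matrix.SpecialLinearGroup.coe_mul, Matrix.SpecialLinearGroup.coe_mul, b12_val, b23_val]
   show _ = _
   ext i j
   fin_cases i <;> fin_cases j <;> simp [J, ue_val, le'_val, Matrix.mul_apply, Fin.sum_univ_three])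

end Cfsg.Agent.Lie.CTA
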