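import Cfsg.Agent.Lib.Lie.CTA.Blocks

/-!
Elementary facts about `SL_n` used in the induction of the Curtis–Tits theorem of type `A`.
-/

set_option autoImplicit false
set_option linter.unusedSectionVars false
set_option linter.style.haveILetI false

namespace Cfsg.Agent.Lie.CTA

open Matrix

variable {F : Type*} [Field F] [Fintype F]

local notation "SL2" => Matrix.SpecialLinearGroup (Fin 2) F

/-- The block on two coordinates. -/
abbrev emb2 {k : ℕ} {i j : Fin k} (h : i ≠ j) :
    Matrix.SpecialLinearGroup (Fin 2) F →* Matrix.SpecialLinearGroup (Fin k) F :=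
  Cfsg.Agent.Small.SLnSt.emb h

/-- A transvection, with the trivial element at equal indices. -/
def tv' {k : ℕ} (i j : Fin k) (t : F) : Matrix.SpecialLinearGroup (Fin k) F :=
  if h : i ≠ j then Matrix.SpecialLinearGroup.transvection h t else 1

variable {k : ℕ}

theorem tv'_val {i j : Fin k} (h : i ≠ j) (t : F) : (tv' i j t).1 = 1 + Matrix.single i j t := by
  rw [tv', dif_pos h, Matrix.SpecialLinearGroup.transvection_coe]

theorem tv'_mulVec {i j : Fin k} (h : i ≠ j) (t : F) (v : Fin k → F) :
    (tv' i j t).1 *ᵥ v = v + Pi.single i (t * v j) := by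
  rw [tv'_val h, add_mulVec, one_mulVec, single_mulVec]
  congr 1

theorem emb2_ue {i j : Fin k} (h : i ≠ j) (t : F) : emb2 h (ue t) = tv' i j t := by
  refine Subtype.ext ?_
  ext a b
  rw [Cfsg.Agent.Small.SLnSt.emb_apply, tv'_val h, Matrix.add_apply, ue_val, Matrix.single_apply]
  congr 1
  by_cases hai : a = i <;> by_cases haj : a = j <;> by_cases hbi : b = i <;> by_cases hbj : b = j <;>
    simp_all [eq_comm]

theorem emb2_le' {i j : Fin k} (h : i ≠ j) (t : F) : emb2 h (le' t) = tv' j i t := by
  refine Subtype.ext ?_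
  ext a b
  rw [Cfsg.Agent.Small.SLnSt.emb_apply, tv'_val h.symm, Matrix.add_apply, le'_val, Matrix.single_apply]
  congr 1
  by_cases hai : a = i <;> by_cases haj : a = j <;> by_cases hbi : b = i <;> by_cases hbj : b = j <;>
    simp_all [eq_comm]

theorem tv'_add {i j : Fin k} (h : i ≠ j) (t u : F) : tv' i j t * tv' i j u = tv' i j (t + u) := by
  refine Subtype.ext (Matrix.ext_of_mulVec_single fun c => ?_)
  rw [Matrix.SpecialLinearGroup.coe_mul, ← mulVec_mulVec, tv'_mulVec h, tv'_mulVec h, tv'_mulVec h]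
  simp [Pi.single_eq_of_ne h.symm, add_mul, add_assoc, Pi.single_add, add_comm, add_left_comm]

theorem tv'_zero (i j : Fin k) : tv' i j (0 : F) = 1 := by
  by_cases h : i ≠ j
  · exact Subtype.ext (by rw [tv'_val h, Matrix.single_zero, add_zero]; rfl)
  · rw [tv', dif_neg h]

theorem tv'_inv {i j : Fin k} (h : i ≠ j) (t : F) : (tv' i j t)⁻¹ = tv' i j (-t) :=
  inv_eq_of_mul_eq_one_right (by rw [tv'_add h, add_neg_cancel, tv'_zero])

theorem theta_tv' {i j : Fin k} (h : i ≠ j) (t : F) : theta (tv' i j t) = tv' j i (-t) := by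
  refine Subtype.ext ?_
  rw [theta_val, tv'_inv h, tv'_val h, tv'_val h.symm, transpose_add, transpose_one, Matrix.transpose_single]

theorem theta_emb2 {i j : Fin k} (h : i ≠ j) (g : SL2) : theta (emb2 h g) = emb2 h (theta g) :=
  DFunLike.congr_fun (sl2_hom_ext (f := theta.comp (emb2 h)) (g := (emb2 h).comp theta)
    (fun t => by simp [theta_ue, emb2_ue, emb2_le', theta_tv' h])
    (fun t => by simp [theta_le', emb2_ue, emb2_le', theta_tv' h.symm])) g

theorem tv'_comm {i j p q : Fin k} (h1 : i ≠ j) (h2 : p ≠ q) (h3 : i ≠ q) (h4 : j ≠ p) (t u : F) :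
    Commute (tv' i j t) (tv' p q u) := by
  refine Subtype.ext (Matrix.ext_of_mulVec_single fun c => ?_)
  simp only [Matrix.SpecialLinearGroup.coe_mul, ← mulVec_mulVec, tv'_mulVec h1, tv'_mulVec h2, Pi.add_apply,
    Pi.single_eq_of_ne h3.symm, Pi.single_eq_of_ne h4, add_zero]
  abel

theorem tv'_comm3 {i j l : Fin k} (h1 : i ≠ j) (h2 : j ≠ l) (h3 : i ≠ l) (t u : F) :
    tv' i j t * tv' j l u = tv' i l (t * u) * tv' j l u * tv' i j t := by
  refine Subtype.ext (Matrix.ext_of_mulVec_single fun c => ?_)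
  simp only [Matrix.SpecialLinearGroup.coe_mul, ← mulVec_mulVec, tv'_mulVec h1, tv'_mulVec h2, tv'_mulVec h3]
  ext x
  simp [Pi.single_apply, h2.symm, h3.symm]
  split_ifs <;> simp_all <;> ring

/-- Two linearly independent vectors are the images of two coordinate vectors. -/
theorem pair_trans (hk : 3 ≤ k) {a b : Fin k} (hab : a ≠ b) {v w : Fin k → F}
    (hli : LinearIndependent F ![v, w]) :
    ∃ h : Matrix.SpecialLinearGroup (Fin k) F, h.1 *ᵥ Pi.single a 1 = v ∧ h.1 *ᵥ Pi.single b 1 = w := by
  set S := Submodule.span F (Set.range ![v, w]) with hS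
  obtain ⟨W, hW⟩ := Submodule.exists_isCompl S
  have hS2 : Module.finrank F S = 2 := by rw [hS, finrank_span_eq_card hli, Fintype.card_fin]
  have hWd : Module.finrank F W = k - 2 := by
    have h := Submodule.finrank_add_eq_of_isCompl hW
    rw [hS2, Module.finrank_fintype_fun_eq_card, Fintype.card_fin] at h
    omega
  let B := ((Module.Basis.span hli).prod (Module.finBasisOfFinrankEq F W hWd)).map
    (Submodule.prodEquivOfIsCompl S W hW)
  let σ0 : Fin 2 ⊕ Fin (k - 2) ≃ Fin k := finSumFinEquiv.trans (finCongr (by omega))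
  let p1 : Equiv.Perm (Fin k) := Equiv.swap (σ0 (Sum.inl 0)) a
  let σ : Fin 2 ⊕ Fin (k - 2) ≃ Fin k := (σ0.trans p1).trans (Equiv.swap (p1 (σ0 (Sum.inl 1))) b)
  have hne : p1 (σ0 (Sum.inl 1)) ≠ a := by
    intro h
    have : p1 (σ0 (Sum.inl 1)) = p1 (σ0 (Sum.inl 0)) := by rw [h]; simp [p1]
    exact absurd (Sum.inl_injective (σ0.injective (p1.injective this))) (by decide)
  have hσ0 : σ (Sum.inl 0) = a := by
    simp only [σ, Equiv.trans_apply]
    rw [show p1 (σ0 (Sum.inl 0)) = a by simp [p1], Equiv.swap_apply_of_ne_of_ne hne.symm hab]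
  have hσ1 : σ (Sum.inl 1) = b := by simp [σ]
  let Bk := B.reindex σ
  let M : Matrix (Fin k) (Fin k) F := Matrix.of fun i j => Bk j i
  have Mc : ∀ j, M *ᵥ Pi.single j 1 = Bk j := fun j => by
    ext i; simp [M, mulVec_single]
  have hM : M.det ≠ 0 := by
    intro h
    obtain ⟨x, x0, hx⟩ := Matrix.exists_mulVec_eq_zero_iff.2 h
    have : ∑ j, x j • Bk j = 0 := by
      rw [← hx]; ext i
      simp [M, mulVec, dotProduct, mul_comm]
    exact x0 (funext fun j => Fintype.linearIndependent_iff.1 Bk.linearIndependent x this j)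
  obtain ⟨c, hca, hcb⟩ : ∃ c : Fin k, c ≠ a ∧ c ≠ b := by
    by_contra hcon
    push Not at hcon
    have : (Finset.univ : Finset (Fin k)) ⊆ {a, b} := fun c _ => by
      simp only [Finset.mem_insert, Finset.mem_singleton]
      by_cases h : c = a
      · exact Or.inl h
      · exact Or.inr (hcon c h)
    have h := Finset.card_le_card this
    rw [Finset.card_univ, Fintype.card_fin] at h
    have := Finset.card_le_two (a := a) (b := b)
    omega
  let d : Fin k → F := Function.update 1 c M.det⁻¹
  refine ⟨⟨M * Matrix.diagonal d, by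
    rw [det_mul, det_diagonal, Finset.prod_update_of_mem (Finset.mem_univ c)]; simp [hM]⟩, ?_, ?_⟩
  · show (M * Matrix.diagonal d) *ᵥ _ = _
    rw [← mulVec_mulVec, Matrix.diagonal_mulVec_single, show d a = 1 by simp [d, hca.symm], one_mul, Mc]
    simp [Bk, B, ← hσ0, Module.Basis.span_apply]
  · show (M * Matrix.diagonal d) *ᵥ _ = _
    rw [← mulVec_mulVec, Matrix.diagonal_mulVec_single, show d b = 1 by simp [d, hcb.symm], one_mul, Mc]
    simp [Bk, B, ← hσ1, Module.Basis.span_apply]

theorem vec_trans (hk : 3 ≤ k) (b : Fin k) {v : Fin k → F} (hv : v ≠ 0) :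
    ∃ h : Matrix.SpecialLinearGroup (Fin k) F, h.1 *ᵥ Pi.single b 1 = v := by
  obtain ⟨a, hab⟩ : ∃ a : Fin k, a ≠ b := by
    haveI : Nontrivial (Fin k) := Fin.nontrivial_iff_two_le.2 (by omega)
    exact exists_ne b
  have hlt : Submodule.span F {v} ≠ ⊤ := fun h => by
    have := finrank_span_singleton (K := F) hv
    rw [h, finrank_top, Module.finrank_fintype_fun_eq_card, Fintype.card_fin] at this
    omega
  obtain ⟨w, -, hw⟩ := SetLike.exists_of_lt hlt.lt_top
  have hli : LinearIndependent F ![w, v] := by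
    rw [LinearIndependent.pair_iff]
    intro s t hst
    have hs : s = 0 := by
      by_contra hs
      apply hw
      rw [Submodule.mem_span_singleton]
      refine ⟨-(s⁻¹ * t), ?_⟩
      have : w = -(s⁻¹ * t) • v := by
        have := congrArg (fun x => s⁻¹ • x) hst
        simp only [smul_add, smul_smul, inv_mul_cancel₀ hs, one_smul, smul_zero] at this
        rw [eq_neg_of_add_eq_zero_left this, neg_smul]
      exact this.symm
    subst hs
    rw [zero_smul, zero_add] at hst
    exact ⟨rfl, (smul_eq_zero.1 hst).resolve_right hv⟩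
  obtain ⟨h, -, h2⟩ := pair_trans hk hab hli
  exact ⟨h, h2⟩

/-- A monomial element sending two coordinate vectors to multiples of two others. -/
theorem mono_pair (hk : 3 ≤ k) {a b p q : Fin k} (hab : a ≠ b) (hpq : p ≠ q) {t u : F} (ht : t ≠ 0) (hu : u ≠ 0) :
    ∃ h : Matrix.SpecialLinearGroup (Fin k) F, h.1 *ᵥ Pi.single a 1 = Pi.single p t ∧
      h.1 *ᵥ Pi.single b 1 = Pi.single q u⁻¹ ∧ h.1ᵀ *ᵥ Pi.single q u = Pi.single b 1 := by
  let σ0 : Equiv.Perm (Fin k) := Equiv.swap a p
  let σ : Equiv.Perm (Fin k) := Equiv.swap (σ0 b) q * σ0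
  have h1 : σ0 b ≠ p := fun h => hab (σ0.injective ((show σ0 a = p by simp [σ0]).trans h.symm))
  have hσa : σ a = p := by
    simp only [σ, Equiv.Perm.coe_mul, Function.comp_apply]
    rw [show σ0 a = p by simp [σ0], Equiv.swap_apply_of_ne_of_ne h1.symm hpq]
  have hσb : σ b = q := by simp [σ]
  obtain ⟨c, hca, hcb⟩ : ∃ c : Fin k, c ≠ p ∧ c ≠ q := by
    by_contra hcon
    push Not at hcon
    have : (Finset.univ : Finset (Fin k)) ⊆ {p, q} := fun c _ => by
      simp only [Finset.mem_insert, Finset.mem_singleton]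
      by_cases h : c = p
      · exact Or.inl h
      · exact Or.inr (hcon c h)
    have h := Finset.card_le_card this
    rw [Finset.card_univ, Fintype.card_fin] at h
    have := Finset.card_le_two (a := p) (b := q)
    omega
  let P : Matrix (Fin k) (Fin k) F := Matrix.of fun i j => if i = σ j then 1 else 0
  have Pc : ∀ j, P *ᵥ Pi.single j 1 = Pi.single (σ j) 1 := fun j => by
    ext i; simp [P, mulVec_single, Pi.single_apply]
  have hP : P.det ≠ 0 := by
    intro h
    obtain ⟨x, x0, hx⟩ := Matrix.exists_mulVec_eq_zero_iff.2 h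
    refine x0 (funext fun j => ?_)
    have := congrFun hx (σ j)
    simpa [P, mulVec, dotProduct, σ.injective.eq_iff] using this
  let d : Fin k → F := Function.update (Function.update (Function.update 1 p t) q u⁻¹) c (P.det⁻¹ * (t * u⁻¹)⁻¹)
  have dp : d p = t := by simp [d, hpq, hca.symm]
  have dq : d q = u⁻¹ := by simp [d, hcb.symm]
  refine ⟨⟨Matrix.diagonal d * P, ?_⟩, ?_, ?_, ?_⟩
  · rw [det_mul, det_diagonal]
    have hprod : ∏ i, d i = P.det⁻¹ := by
      have hmem : ∀ i, i ∉ ({p, q, c} : Finset (Fin k)) → d i = 1 := fun i hi => by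
        simp only [Finset.mem_insert, Finset.mem_singleton, not_or] at hi
        simp [d, hi.1, hi.2.1, hi.2.2]
      rw [← Finset.prod_subset (Finset.subset_univ {p, q, c}) (fun i _ hi => hmem i hi),
        Finset.prod_insert (by simp [hpq, hca.symm]), Finset.prod_insert (by simp [hcb.symm]), Finset.prod_singleton,
        dp, dq]
      simp only [d, Function.update_self]
      field_simp
    rw [hprod, inv_mul_cancel₀ hP]
  · show (Matrix.diagonal d * P) *ᵥ _ = _
    rw [← mulVec_mulVec, Pc, Matrix.diagonal_mulVec_single, hσa, dp, mul_one]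
  · show (Matrix.diagonal d * P) *ᵥ _ = _
    rw [← mulVec_mulVec, Pc, Matrix.diagonal_mulVec_single, hσb, dq, mul_one]
  · show (Matrix.diagonal d * P)ᵀ *ᵥ _ = _
    ext i
    rw [Matrix.mulVec_single, Pi.smul_apply, Matrix.col_apply, Matrix.transpose_apply, Matrix.diagonal_mul, dq]
    simp [P, Pi.single_apply, ← hσb, σ.injective.eq_iff, eq_comm, hu]

/-- The embedding fixing the last coordinate. -/
def embLast {l : ℕ} : Matrix.SpecialLinearGroup (Fin l) F →* Matrix.SpecialLinearGroup (Fin (l + 1)) F where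
  toFun A := ⟨Matrix.reindex finSumFinEquiv finSumFinEquiv (Matrix.fromBlocks A.1 0 0 (1 : Matrix (Fin 1) (Fin 1) F)),
    by rw [Matrix.det_reindex_self, Matrix.det_fromBlocks_zero₁₂, A.2, det_one, mul_one]⟩
  map_one' := Subtype.ext (by simp)
  map_mul' A B := Subtype.ext (by
    show Matrix.reindex finSumFinEquiv finSumFinEquiv (Matrix.fromBlocks (A.1 * B.1) 0 0 (1 : Matrix (Fin 1) (Fin 1) F)) =
      Matrix.reindex finSumFinEquiv finSumFinEquiv (Matrix.fromBlocks A.1 0 0 (1 : Matrix (Fin 1) (Fin 1) F)) *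
        Matrix.reindex finSumFinEquiv finSumFinEquiv (Matrix.fromBlocks B.1 0 0 (1 : Matrix (Fin 1) (Fin 1) F))
    simp [Matrix.reindex_apply, Matrix.submatrix_mul_equiv, Matrix.fromBlocks_multiply])

theorem embLast_val {l : ℕ} (A : Matrix.SpecialLinearGroup (Fin l) F) (i j : Fin (l + 1)) :
    (embLast A).1 i j = if hi : i.val < l then (if hj : j.val < l then A.1 ⟨i, hi⟩ ⟨j, hj⟩ else 0)
      else (if j.val < l then 0 else 1) := by
  show Matrix.reindex finSumFinEquiv finSumFinEquiv (Matrix.fromBlocks A.1 0 0 (1 : Matrix (Fin 1) (Fin 1) F)) i j = _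
  obtain ⟨x, rfl⟩ := finSumFinEquiv.surjective i
  obtain ⟨y, rfl⟩ := finSumFinEquiv.surjective j
  rcases x with x | x <;> rcases y with y | y <;>
    simp [Matrix.reindex_apply, Fin.fin_one_eq_zero, x.isLt, y.isLt, Matrix.one_apply]

theorem embLast_tv' {l : ℕ} {i j : Fin l} (h : i ≠ j) (t : F) :
    embLast (tv' i j t) = tv' i.castSucc j.castSucc t := by
  refine Subtype.ext ?_
  ext x y
  rw [embLast_val, tv'_val h, tv'_val (fun e => h (Fin.castSucc_injective _ e))]
  simp only [Matrix.add_apply, Matrix.one_apply, Matrix.single_apply, Fin.ext_iff, Fin.val_castSucc]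
  have hi := i.isLt
  have hj := j.isLt
  have hx := x.isLt
  have hy := y.isLt
  split_ifs <;> first | rfl | (exfalso; omega) | simp

/-- The elements fixing the last coordinate vector are generated by transvections. -/
theorem stab_mem {l : ℕ} [Nontrivial (Fin l)] (K : Subgroup (Matrix.SpecialLinearGroup (Fin (l + 1)) F))
    (hK : ∀ p q : Fin (l + 1), p ≠ q → q ≠ Fin.last l → ∀ t, tv' p q t ∈ K)
    {h : Matrix.SpecialLinearGroup (Fin (l + 1)) F}
    (hh : h.1 *ᵥ Pi.single (Fin.last l) 1 = Pi.single (Fin.last l) 1) : h ∈ K := by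
  have hcol : ∀ i, h.1 i (Fin.last l) = if i = Fin.last l then 1 else 0 := fun i => by
    have := congrFun hh i
    rw [mulVec_single_one, Matrix.col_apply, Pi.single_apply] at this
    exact this
  have hA : (Matrix.of fun i j : Fin l => h.1 i.castSucc j.castSucc).det = 1 := by
    have hd := h.2
    rw [Matrix.det_succ_column _ (Fin.last l), Finset.sum_eq_single (Fin.last l)] at hd
    · rw [hcol, if_pos rfl, mul_one, Fin.succAbove_last, Even.neg_one_pow ⟨_, rfl⟩, one_mul] at hd
      exact hd
    · intro i _ hi; rw [hcol, if_neg hi, mul_zero, zero_mul]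
    · intro hn; exact absurd (Finset.mem_univ _) hn
  have hemb : ∀ A : Matrix.SpecialLinearGroup (Fin l) F, embLast A ∈ K := by
    intro A
    have hm : A ∈ Subgroup.closure {g : Matrix.SpecialLinearGroup (Fin l) F |
        ∃ (i j : Fin l) (h : i ≠ j) (c : F), g = Matrix.SpecialLinearGroup.transvection h c} := by
      rw [Cfsg.Agent.Classical.sl_closure_transvections]; exact Subgroup.mem_top A
    induction hm using Subgroup.closure_induction with
    | mem x hx =>
      obtain ⟨i, j, hij, c, rfl⟩ := hx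
      rw [show Matrix.SpecialLinearGroup.transvection hij c = tv' i j c by rw [tv', dif_pos hij], embLast_tv' hij]
      exact hK _ _ (fun e => hij (Fin.castSucc_injective _ e)) (Fin.castSucc_lt_last j).ne c
    | one => rw [map_one]; exact one_mem _
    | mul a b _ _ ha hb => rw [map_mul]; exact mul_mem ha hb
    | inv a _ ha => rw [map_inv]; exact inv_mem ha
  let r : Fin (l + 1) → F := Function.update (h.1 (Fin.last l)) (Fin.last l) 0
  have hR : ∀ s : Finset (Fin (l + 1)), Fin.last l ∉ s → ∃ R ∈ K, (R : Matrix.SpecialLinearGroup (Fin (l + 1)) F).1 =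
      1 + ∑ q ∈ s, Matrix.single (Fin.last l) q (r q) := by
    intro s
    induction s using Finset.induction with
    | empty => intro _; exact ⟨1, one_mem _, by simp⟩
    | insert q s hq ih =>
      intro hl
      rw [Finset.mem_insert, not_or] at hl
      obtain ⟨R, hR, hRv⟩ := ih hl.2
      refine ⟨R * tv' (Fin.last l) q (r q), mul_mem hR (hK _ _ hl.1 (Ne.symm hl.1) _), ?_⟩
      have h0 : (∑ i ∈ s, Matrix.single (Fin.last l) i (r i)) * Matrix.single (Fin.last l) q (r q) = 0 := by
        rw [Finset.sum_mul]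
        refine Finset.sum_eq_zero fun i hi => ?_
        have hne : i ≠ Fin.last l := fun e => hl.2 (e ▸ hi)
        simp [hne]
      rw [Matrix.SpecialLinearGroup.coe_mul, hRv, tv'_val hl.1, Finset.sum_insert hq, add_mul, one_mul, mul_add,
        mul_one, h0]
      abel
  obtain ⟨R, hRK, hRv⟩ := hR (Finset.univ.erase (Fin.last l)) (Finset.notMem_erase _ _)
  obtain ⟨A, hAv⟩ : ∃ A : Matrix.SpecialLinearGroup (Fin l) F,
      A.1 = Matrix.of fun i j : Fin l => h.1 i.castSucc j.castSucc := ⟨⟨_, hA⟩, rfl⟩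
  have heq : h = embLast A * R := by
    refine Subtype.ext ?_
    ext i j
    rw [Matrix.SpecialLinearGroup.coe_mul, hRv, mul_add, mul_one, Finset.mul_sum, Matrix.add_apply,
      Matrix.sum_apply]
    simp only [Matrix.mul_apply, Matrix.single_apply, mul_ite, mul_zero, ite_and, Finset.sum_ite_eq,
      Finset.mem_univ, if_true]
    induction i using Fin.lastCases with
    | last =>
      induction j using Fin.lastCases with
      | last => simp [embLast_val, hcol, r]
      | cast j =>
        simp [embLast_val, r, Finset.sum_ite_eq', (Fin.castSucc_lt_last j).ne]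
    | cast i =>
      induction j using Fin.lastCases with
      | last => simp [embLast_val, hcol, (Fin.castSucc_lt_last i).ne]
      | cast j => simp [embLast_val, hAv, (Fin.castSucc_lt_last i).ne]
  rw [heq]
  exact mul_mem (hemb A) hRK

end Cfsg.Agent.Lie.CTA
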